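import Mathlib
import Cfsg.Agent.FixBN.Disp
import Cfsg.Agent.FixBN.Thin_m3
import Cfsg.Agent.FixBN.GoodFam
import Cfsg.Agent.FixBN.ExpTwo_m3
import Cfsg.Agent.FixBN.FixSplit
import Cfsg.Agent.FixBN.GoodSplit
import Cfsg.Agent.FixBN.ChevGood
import Cfsg.Agent.Nodes.RGDTwNode
import Cfsg.Agent.S1070
import Cfsg.Agent.S1071
import Cfsg.Agent.FixBN.FieldRGD
import Cfsg.Agent.ChevalleyStructure.D4H1
import Cfsg.Agent.FastGrp
import Cfsg.Agent.Prune
set_option linter.all false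

section
prune_inst 0x7f00000000000000000000000000000000000000000000000000000000000000000000000000000000000000000000000000000000000000000000000000000000000000000000000000000000000000003fffffffffffffffffffffffffffbeffbdffffffff

-- part: FixBN/OutSplit
section
set_option linter.all false
open scoped Cfsg.Agent.FastGrp

-- part: FixBN/RankProd
section
/-!
(T4) The stabiliser of an anisotropic residue in the centraliser of the automorphism is solvable,
given the rank one condition `GoodFam` on the panels.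

The type `J` of the residue `Q` is commuting, so `Q` is the product of its panels; `res j` is the
action on the factor `Pan j x`, by projection.
-/

set_option autoImplicit false
set_option linter.unusedSectionVars false

open scoped Pointwise

namespace Cfsg.Agent.FixBN

open Cfsg.Agent.Tits.Core Cfsg.Agent.Tits.Core.Bldg Cfsg.Agent.Tits.Exchange Cfsg.Agent.Tits

namespace RankProd

/-! ### Solvability -/

theorem isSolvable_of_le {N : Type*} [Group N] {K : Subgroup N} [hK : Group.IsSolvable K] {n : ℕ}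
    (h : derivedSeries N n ≤ K) : Group.IsSolvable N := by
  obtain ⟨m, hm⟩ := id hK
  refine ⟨⟨n + m, le_bot_iff.mp (Subgroup.map_bot K.subtype ▸ hm ▸ ?_)⟩⟩
  clear hm
  induction m with
  | zero =>
    rw [add_zero, derivedSeries_zero, ← MonoidHom.range_eq_map, Subgroup.range_subtype]
    exact h
  | succ m hm => exact Subgroup.commutator_le_map_commutator hm hm

theorem isSolvable_of_homs {N : Type*} [Group N] {ι : Type*} [Finite ι] {P : ι → Type*}
    [∀ i, Group (P i)] (ψ : ∀ i, N →* P i) (h : ∀ i, Group.IsSolvable (ψ i).range) (K : Subgroup N)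
    [Group.IsSolvable K] (hK : ∀ n, (∀ i, ψ i n = 1) → n ∈ K) : Group.IsSolvable N := by
  classical
  have := Fintype.ofFinite ι
  have h1 : ∀ s : Finset ι, ∃ n, ∀ i ∈ s, derivedSeries N n ≤ (ψ i).ker := by
    intro s
    induction s using Finset.induction_on with
    | empty => exact ⟨0, fun i hi => absurd hi (Finset.notMem_empty i)⟩
    | insert j s _ ih =>
      obtain ⟨n, hn⟩ := ih
      obtain ⟨m, hm⟩ := (h j).solvable
      refine ⟨max n m, fun i hi => ?_⟩
      rcases Finset.mem_insert.1 hi with rfl | hi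
      · refine (derivedSeries_antitone N (le_max_right n m)).trans ?_
        have h2 := map_derivedSeries_le_derivedSeries (ψ i).rangeRestrict m
        rw [hm, le_bot_iff, Subgroup.map_eq_bot_iff, MonoidHom.ker_rangeRestrict] at h2
        exact h2
      · exact (derivedSeries_antitone N (le_max_left n m)).trans (hn i hi)
  obtain ⟨n, hn⟩ := h1 Finset.univ
  exact isSolvable_of_le (K := K) (n := n) fun g hg => hK g fun i => hn i (Finset.mem_univ i) hg

/-! ### Commuting types -/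

variable {I : Type*} {M : CoxeterMatrix I} {W : Type*} [Group W] {cs : CoxeterSystem M W} {C : Type*}
  {Δ : Bldg cs C} [F : OppRes.Cox cs]

local prefix:100 "ℓ" => cs.length

/-- the type `J` is commuting -/
def Com (cs : CoxeterSystem M W) (J : Set I) : Prop :=
  ∀ i ∈ J, ∀ j ∈ J, cs.simple i * cs.simple j = cs.simple j * cs.simple i

variable {J : Set I} {j : I}

theorem mem_or (hJ : Com cs J) (hj : j ∈ J) {w : W} (hw : w ∈ WJ cs J) :
    w ∈ WJ cs (J \ {j}) ∨ w * cs.simple j ∈ WJ cs (J \ {j}) := by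
  obtain ⟨ω, hω, rfl⟩ := exists_word_of_mem_WJ cs hw
  clear hw
  induction ω with
  | nil => left; rw [cs.wordProd_nil]; exact one_mem _
  | cons i ω ih =>
    have hi : i ∈ J := hω i (by simp)
    have hω' : ∀ k ∈ ω, k ∈ J := fun k hk => hω k (by simp [hk])
    have hcomm : cs.simple j * cs.wordProd ω = cs.wordProd ω * cs.simple j :=
      commute_of_mem_WJ (fun k hk => hJ j hj k hk) (wordProd_mem_WJ cs hω')
    rw [cs.wordProd_cons]
    by_cases hij : i = j
    · subst hij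
      rcases ih hω' with h | h
      · right
        rw [hcomm, mul_assoc, cs.simple_mul_simple_self, mul_one]
        exact h
      · left
        rw [hcomm]
        exact h
    · have hi' : i ∈ J \ {j} := ⟨hi, hij⟩
      rcases ih hω' with h | h
      · left
        exact mul_mem (Exchange.simple_mem_WJ cs hi') h
      · right
        rw [mul_assoc]
        exact mul_mem (Exchange.simple_mem_WJ cs hi') h

theorem not_simple_mem : cs.simple j ∉ WJ cs (J \ {j}) :=
  fun h => (Cox.mem_of_simple_mem h).2 rfl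

/-- the projection to `Pan j x` lies in the same residue of type `J - j` -/
theorem δ_proj_mem (hJ : Com cs J) (hj : j ∈ J) {x y : C} (hy : y ∈ Δ.Res J x) :
    Δ.δ y (Δ.proj {j} x y) ∈ WJ cs (J \ {j}) := by
  have hp := Δ.isProj_proj {j} x y
  have hpQ : Δ.proj {j} x y ∈ Δ.Res J x :=
    Δ.Res_mono (Set.singleton_subset_iff.2 hj) x hp.1
  have h1 : Δ.δ y (Δ.proj {j} x y) ∈ WJ cs J := Δ.δ_mem_of_mem_Res hy hpQ
  have h2 := hp.isMinR _ (Exchange.simple_mem_WJ cs (Set.mem_singleton j))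
  rw [cs.length_simple] at h2
  rcases mem_or hJ hj h1 with h3 | h3
  · exact h3
  · exfalso
    have h4 : ℓ (Δ.δ y (Δ.proj {j} x y) * cs.simple j * cs.simple j) <
        ℓ (Δ.δ y (Δ.proj {j} x y) * cs.simple j) := by
      rw [mul_assoc, cs.simple_mul_simple_self, mul_one]
      omega
    exact (F.descent_mem _ _ h3 j h4).2 rfl

theorem sub_J : J \ {j} ⊆ J := Set.sdiff_subset

theorem eq_of_mem_Pan {y z : C} (h : z ∈ Δ.Pan j y) (h' : Δ.δ y z ∈ WJ cs (J \ {j})) : z = y := by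
  rcases h with h | h
  · exact h
  · rw [h] at h'
    exact absurd h' not_simple_mem

theorem proj_mem_Pan (x y : C) : Δ.proj {j} x y ∈ Δ.Pan j x := by
  rw [Δ.Pan_eq_Res]
  exact Δ.proj_mem {j} x y

theorem symm_mem {y z : C} {K : Set I} (h : Δ.δ y z ∈ WJ cs K) : Δ.δ z y ∈ WJ cs K := by
  rw [Δ.symm y z]; exact inv_mem h

theorem trans_mem {y z a : C} {K : Set I} (h : Δ.δ y z ∈ WJ cs K) (h' : Δ.δ z a ∈ WJ cs K) :
    Δ.δ y a ∈ WJ cs K := OppRes.delta_mem_of_mem h h'

/-- `y`, `y'` have the same projection iff they lie in the same residue of type `J - j` -/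
theorem proj_eq_iff (hJ : Com cs J) (hj : j ∈ J) {x y y' : C} (hy : y ∈ Δ.Res J x)
    (hy' : y' ∈ Δ.Res J x) :
    Δ.proj {j} x y = Δ.proj {j} x y' ↔ Δ.δ y y' ∈ WJ cs (J \ {j}) := by
  have h1 := δ_proj_mem hJ hj hy
  have h2 := δ_proj_mem hJ hj hy'
  constructor
  · intro h
    rw [← h] at h2
    exact trans_mem h1 (symm_mem h2)
  · intro h
    have h3 := trans_mem (trans_mem (symm_mem h2) (symm_mem h)) h1
    have h4 : Δ.proj {j} x y ∈ Δ.Pan j (Δ.proj {j} x y') :=
      Δ.mem_Pan_trans (Δ.mem_Pan_symm (proj_mem_Pan x y')) (proj_mem_Pan x y)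
    exact eq_of_mem_Pan h4 h3

theorem proj_of_mem_Pan {x z : C} (hz : z ∈ Δ.Pan j x) : Δ.proj {j} x z = z := by
  rw [Δ.Pan_eq_Res] at hz
  exact Δ.proj_of_mem hz

theorem mem_Res_of_Pan (hj : j ∈ J) {x z : C} (hz : z ∈ Δ.Pan j x) : z ∈ Δ.Res J x :=
  Δ.Pan_subset_Res hj x hz

theorem proj_mem_Res (hj : j ∈ J) (x y : C) : Δ.proj {j} x y ∈ Δ.Res J x :=
  mem_Res_of_Pan hj (proj_mem_Pan x y)

/-! ### The action on a factor -/

/-- The permutations which preserve the residue and its subresidues of type `J - j`. -/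
def PA (Δ : Bldg cs C) (J : Set I) (j : I) (x : C) : Subgroup (Equiv.Perm C) where
  carrier := {f | (∀ y, y ∈ Δ.Res J x ↔ f y ∈ Δ.Res J x) ∧
    ∀ y ∈ Δ.Res J x, ∀ y' ∈ Δ.Res J x, (Δ.δ y y' ∈ WJ cs (J \ {j}) ↔ Δ.δ (f y) (f y') ∈ WJ cs (J \ {j}))}
  one_mem' := ⟨fun y => Iff.rfl, fun y _ y' _ => Iff.rfl⟩
  mul_mem' := fun {a b} ha hb => ⟨fun y => by rw [hb.1, ha.1]; rfl, fun y hy y' hy' => by
    rw [hb.2 y hy y' hy', ha.2 _ ((hb.1 y).1 hy) _ ((hb.1 y').1 hy')]; rfl⟩
  inv_mem' := fun {a} ha => by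
    have h1 : ∀ y, a (a⁻¹ y) = y := fun y => a.apply_symm_apply y
    have h2 : ∀ y, y ∈ Δ.Res J x ↔ a⁻¹ y ∈ Δ.Res J x := fun y => by
      rw [ha.1 (a⁻¹ y), h1]
    exact ⟨h2, fun y hy y' hy' => by
      rw [ha.2 _ ((h2 y).1 hy) _ ((h2 y').1 hy'), h1, h1]⟩

variable (hJ : Com cs J) (hj : j ∈ J)

/-- The action on the factor `Pan j x`. -/
noncomputable def res (x : C) : PA Δ J j x →* Equiv.Perm (Δ.Pan j x) :=
  MonoidHom.toHomPerm
    { toFun := fun f z => ⟨Δ.proj {j} x (f.1 z), proj_mem_Pan x _⟩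
      map_one' := by
        funext z
        apply Subtype.ext
        exact proj_of_mem_Pan z.2
      map_mul' := fun f g => by
        funext z
        apply Subtype.ext
        change Δ.proj {j} x (f.1 (g.1 z)) = Δ.proj {j} x (f.1 (Δ.proj {j} x (g.1 z)))
        have hz : (z : C) ∈ Δ.Res J x := mem_Res_of_Pan hj z.2
        have hgz : g.1 z ∈ Δ.Res J x := (g.2.1 _).1 hz
        have hp : Δ.proj {j} x (g.1 z) ∈ Δ.Res J x := proj_mem_Res hj x _
        rw [proj_eq_iff hJ hj ((f.2.1 _).1 hgz) ((f.2.1 _).1 hp)]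
        exact (f.2.2 _ hgz _ hp).1 (δ_proj_mem hJ hj hgz) }

theorem res_apply (x : C) (f : PA Δ J j x) (z : Δ.Pan j x) :
    (res hJ hj x f z : C) = Δ.proj {j} x (f.1 z) := rfl

/-! ### The root groups -/

section Grp

variable {G : Type*} [Group G] [MulAction G C] {p : ℕ} (S : Sys Δ G p)

include hJ hj

/-- (F3) The image of `U y` on the factor `j` depends only on the residue of type `J - j` of `y`. -/
theorem exists_same (hth : Δ.Thick) {x y₀ y₁ : C} (h0 : y₀ ∈ Δ.Res J x)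
    (h01 : Δ.δ y₀ y₁ ∈ WJ cs (J \ {j})) {u : G} (hu : u ∈ S.U y₀) :
    ∃ v ∈ S.U y₁, ∀ z ∈ Δ.Res J x, Δ.proj {j} x (v • z) = Δ.proj {j} x (u • z) := by
  set K : Set I := J \ {j} with hK
  have hKJ : K ⊆ J := sub_J
  -- a chamber `z₀` of the panel of `y₀` and its image
  obtain ⟨z₀, hz₀⟩ := Δ.exists_δ y₀ (cs.simple j)
  have hz₁ : Δ.δ y₀ (u • z₀) = cs.simple j := by rw [S.δ_smul hu]; exact hz₀
  -- the chamber of `Res K y₀` opposite `y₀`
  obtain ⟨ym, hym⟩ := Δ.exists_δ y₀ (wJ cs K)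
  have hymK : Δ.δ y₀ ym ∈ WJ cs K := by rw [hym]; exact F.wJ_mem K
  have hymQ : ym ∈ Δ.Res J x := Δ.mem_Res_trans h0 (WJ_mono cs hKJ hymK)
  have hQ : ∀ {a b : C}, a ∈ Δ.Res J x → b ∈ Δ.Pan j a → b ∈ Δ.Res J x := fun ha hb =>
    Δ.mem_Res_trans ha (Δ.Pan_subset_Res hj _ hb)
  have key : ∀ z, Δ.δ y₀ z = cs.simple j → ∃ z', Δ.δ ym z' = cs.simple j ∧ Δ.δ z z' ∈ WJ cs K := by
    intro z hz
    have hzQ : z ∈ Δ.Res J x := hQ h0 (Δ.mem_Pan_of_δ hz)
    have hzQ' : z ∈ Δ.Res J ym := by rw [Δ.Res_eq_of_mem hymQ]; exact hzQ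
    refine ⟨Δ.proj {j} ym z, ?_, δ_proj_mem hJ hj hzQ'⟩
    rcases proj_mem_Pan (Δ := Δ) (j := j) ym z with h | h
    · exfalso
      have h1 := δ_proj_mem hJ hj hzQ'
      rw [h] at h1
      have h2 : Δ.δ y₀ z ∈ WJ cs K := trans_mem hymK (symm_mem h1)
      rw [hz] at h2
      exact not_simple_mem h2
    · exact h
  obtain ⟨z₀', h1, h2⟩ := key z₀ hz₀
  obtain ⟨z₁', h3, h4⟩ := key (u • z₀) hz₁
  have hl : ℓ (wJ cs K * cs.simple j) = ℓ (wJ cs K) + ℓ (cs.simple j) := by
    rw [cs.length_simple]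
    rcases cs.length_mul_simple (wJ cs K) j with h | h
    · exact h
    · exfalso
      exact (F.descent_mem K _ (F.wJ_mem K) j (by omega)).2 rfl
  have h5 : Δ.δ y₀ z₀' = wJ cs K * cs.simple j := Δ.δ_mul_of hym h1 hl
  have h6 : Δ.δ y₀ z₁' = wJ cs K * cs.simple j := Δ.δ_mul_of hym h3 hl
  obtain ⟨v, hv, hvz⟩ := S.exists_move (h5.trans h6.symm)
  have hvym : v • ym = ym := by
    refine Δ.between_unique hl (x := y₀) (z := z₁') ?_ ?_ hym h3
    · rw [S.δ_smul hv, hym]
    · rw [← hvz, S.iso, h1]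
  have hvfix := S.fixRes hth hv hym hvym
  have hv1 : v ∈ S.U y₁ := S.mem_U_of_fix hv (hvfix y₁ h01)
  -- `v⁻¹ u` fixes `z₀`
  have hw : v⁻¹ * u ∈ S.U y₀ := mul_mem (inv_mem hv) hu
  have hwz : (v⁻¹ * u) • z₀ = z₀ := by
    have h7 : Δ.δ z₀ ((v⁻¹ * u) • z₀) ∈ WJ cs K := by
      refine trans_mem h2 ?_
      rw [← S.iso v, hvz, mul_smul, smul_inv_smul]
      exact symm_mem h4
    refine eq_of_mem_Pan ?_ h7
    refine Δ.mem_Pan_trans (Δ.mem_Pan_symm (Δ.mem_Pan_of_δ hz₀)) ?_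
    refine Δ.mem_Pan_of_δ ?_
    rw [S.δ_smul hw, hz₀]
  have hpan := S.pan y₀ z₀ j hz₀ _ hw hwz
  refine ⟨v, hv1, fun z hz => ?_⟩
  have hz' : z ∈ Δ.Res J y₀ := by rw [Δ.Res_eq_of_mem h0]; exact hz
  set zb := Δ.proj {j} y₀ z with hzb
  have h8 : zb ∈ Δ.Pan j y₀ := proj_mem_Pan y₀ z
  have h9 : v • zb = u • zb := by
    have := hpan zb h8
    rw [mul_smul, inv_smul_eq_iff] at this
    exact this.symm
  have h10 : Δ.δ z zb ∈ WJ cs K := δ_proj_mem hJ hj hz'
  have hmem : ∀ {g : G}, g ∈ S.U y₀ → ∀ a ∈ Δ.Res J x, g • a ∈ Δ.Res J x := by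
    intro g hg a ha
    have h11 := S.smul_mem_Res (g := g) (J := J) (x := y₀) (y := a)
      (by rw [Δ.Res_eq_of_mem h0]; exact ha)
    rw [S.fix y₀ g hg, Δ.Res_eq_of_mem h0] at h11
    exact h11
  rw [proj_eq_iff hJ hj (hmem hv z hz) (hmem hu z hz)]
  refine trans_mem (z := v • zb) (by rw [S.iso]; exact h10) ?_
  rw [h9, S.iso]
  exact symm_mem h10

/-- A permutation of the chambers permuting the groups `U y` permutes the root groups of the
factor. -/
theorem res_mem_fam (hth : Δ.Thick) {x : C} (f : PA Δ J j x) (α : G → G)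
    (hα : ∀ y ∈ Δ.Res J x, ∀ u ∈ S.U y, α u ∈ S.U (f.1 y))
    (hf : ∀ (u : G) (z : C), f.1 (u • z) = α u • f.1 z) (y : Δ.Pan j x)
    (g : Equiv.Perm (Δ.Pan j x)) (hg : g ∈ S.fam j x y) :
    res hJ hj x f * g * (res hJ hj x f)⁻¹ ∈ S.fam j x (res hJ hj x f y) := by
  obtain ⟨u, hu, hug⟩ := hg
  have hyQ : (y : C) ∈ Δ.Res J x := mem_Res_of_Pan hj y.2
  have h1 := hα y hyQ u hu
  have hfy : f.1 y ∈ Δ.Res J x := (f.2.1 _).1 hyQ
  obtain ⟨v, hv, hvz⟩ := exists_same hJ hj S hth hfy (δ_proj_mem hJ hj hfy) h1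
  refine ⟨v, hv, fun z => ?_⟩
  obtain ⟨z', rfl⟩ := (res hJ hj x f).surjective z
  have h2 : (res hJ hj x f * g * (res hJ hj x f)⁻¹) (res hJ hj x f z') = res hJ hj x f (g z') := by
    rw [Equiv.Perm.mul_apply, Equiv.Perm.mul_apply]
    congr 2
    exact (res hJ hj x f).symm_apply_apply z'
  rw [h2, res_apply, hug, hf]
  have hz'Q : (z' : C) ∈ Δ.Res J x := mem_Res_of_Pan hj z'.2
  have hfz' : f.1 z' ∈ Δ.Res J x := (f.2.1 _).1 hz'Q
  -- `v` preserves the panel
  have hvp : v • (res hJ hj x f z' : C) ∈ Δ.Pan j x := by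
    have h3 : Δ.proj {j} x (f.1 y) ∈ Δ.Pan j x := proj_mem_Pan x _
    have h4 : Δ.Pan j (Δ.proj {j} x (f.1 y)) = Δ.Pan j x := Δ.Pan_eq_of_mem h3
    have h5 := S.smul_mem_Res (g := v) (J := {j}) (x := Δ.proj {j} x (f.1 y))
      (y := (res hJ hj x f z' : C)) (by
        rw [← Δ.Pan_eq_Res, h4]; exact (res hJ hj x f z').2)
    rw [S.fix _ v hv, ← Δ.Pan_eq_Res, h4] at h5
    exact h5
  rw [← proj_of_mem_Pan hvp, res_apply, hvz _ (proj_mem_Res hj x _)]
  -- both are projections of chambers in the same residue of type `J - j`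
  have hmem : ∀ a ∈ Δ.Res J x, α u • a ∈ Δ.Res J x := by
    intro a ha
    have h11 := S.smul_mem_Res (g := α u) (J := J) (x := f.1 y) (y := a)
      (by rw [Δ.Res_eq_of_mem hfy]; exact ha)
    rw [S.fix _ _ h1, Δ.Res_eq_of_mem hfy] at h11
    exact h11
  rw [proj_eq_iff hJ hj (hmem _ hfz') (hmem _ (proj_mem_Res hj x _)), S.iso]
  exact δ_proj_mem hJ hj hfz'

omit hJ in
/-- The elements of `G` stabilising the residue. -/
def toPA (S : Sys Δ G p) (J : Set I) (j : I) (x : C) :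
    MulAction.stabilizer G (Δ.Res J x) →* PA Δ J j x where
  toFun c := ⟨MulAction.toPermHom G C c.1, fun y => by
      have h1 : c.1 • Δ.Res J x = Δ.Res J x := c.2
      change y ∈ Δ.Res J x ↔ c.1 • y ∈ Δ.Res J x
      exact ((Set.smul_mem_smul_set_iff (a := c.1) (s := Δ.Res J x) (x := y)).symm).trans
        (by rw [h1]), fun y _ y' _ => by
      change _ ↔ Δ.δ (c.1 • y) (c.1 • y') ∈ _
      rw [S.iso]⟩
  map_one' := Subtype.ext (map_one _)
  map_mul' a b := Subtype.ext (map_mul (MulAction.toPermHom G C) a.1 b.1)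

theorem toPA_mem_famStab (hth : Δ.Thick) (x : C) (c : MulAction.stabilizer G (Δ.Res J x)) :
    res hJ hj x (toPA S J j x c) ∈ famStab (S.fam j x) := by
  have key : ∀ c : MulAction.stabilizer G (Δ.Res J x), ∀ (y : Δ.Pan j x) (g : Equiv.Perm (Δ.Pan j x)),
      g ∈ S.fam j x y → res hJ hj x (toPA S J j x c) * g * (res hJ hj x (toPA S J j x c))⁻¹ ∈
        S.fam j x (res hJ hj x (toPA S J j x c) y) := by
    intro c y g hg
    refine res_mem_fam hJ hj S hth (toPA S J j x c) (fun u => c.1 * u * c.1⁻¹)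
      (fun y _ u hu => S.conj_mem_U hu c.1) (fun u z => ?_) y g hg
    change c.1 • u • z = (c.1 * u * c.1⁻¹) • c.1 • z
    rw [mul_smul, inv_smul_smul, mul_smul]
  intro y g
  refine ⟨key c y g, fun h => ?_⟩
  have h1 := key c⁻¹ _ _ h
  rw [map_inv, map_inv] at h1
  have h2 : (res hJ hj x (toPA S J j x c))⁻¹ *
      (res hJ hj x (toPA S J j x c) * g * (res hJ hj x (toPA S J j x c))⁻¹) *
      (res hJ hj x (toPA S J j x c))⁻¹⁻¹ = g := by group
  have h3 : (res hJ hj x (toPA S J j x c))⁻¹ (res hJ hj x (toPA S J j x c) y) = y :=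
    (res hJ hj x (toPA S J j x c)).symm_apply_apply y
  rwa [h2, h3] at h1

end Grp

end RankProd

open RankProd

variable {I : Type*} {M : CoxeterMatrix I} {W : Type*} [Group W] {cs : CoxeterSystem M W} {C : Type*}
  {Δ : Bldg cs C} [F : OppRes.Cox cs] {G : Type*} [Group G] [MulAction G C] {p : ℕ}

theorem Sys.τ_mem_U_aux (S : Sys Δ G p) (t : Tw Δ G) {y : C} {u : G} (hu : u ∈ S.U y) :
    t.τ u ∈ S.U (t.θ y) := by
  have h1 : IsPGroup p ((S.U y).map t.τ.toMonoidHom) := (S.isP y).map _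
  refine S.max (t.θ y) _ h1 ?_ ⟨u, hu, rfl⟩
  rintro _ ⟨v, hv, rfl⟩
  change t.τ v • t.θ y = t.θ y
  rw [← t.θ_smul, S.fix y v hv]

/-- **(T4)** The stabiliser of an anisotropic residue in the centraliser of the automorphism is
solvable, given the rank one condition. -/
theorem Sys.isSolvable_stab (S : Sys Δ G p) [hp : Fact p.Prime] [Finite I] [Finite C] (hth : Δ.Thick)
    {t : Tw Δ G} {J : Set I} {x : C} (h : t.Gd J x)
    (hsol : Group.IsSolvable (MulAction.stabilizer G x))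
    (hR : ∀ j ∈ J, GoodFam (S.fam j x)) :
    Group.IsSolvable ↥(t.cent ⊓ MulAction.stabilizer G (Δ.Res J x)) := by
  have hJ : Com cs J := fun i hi j hj => S.gd_comm hth h hi hj
  set N : Subgroup G := t.cent ⊓ MulAction.stabilizer G (Δ.Res J x) with hN
  let inc : N →* MulAction.stabilizer G (Δ.Res J x) := Subgroup.inclusion inf_le_right
  let ψ : ∀ j : J, N →* Equiv.Perm (Δ.Pan (j : I) x) := fun j =>
    (res hJ j.2 x).comp ((toPA S J j x).comp inc)
  let K : Subgroup N := (MulAction.stabilizer G x).subgroupOf N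
  have hK : Group.IsSolvable K := by
    refine Group.isSolvable_of_isSolvable_injective
      (f := ((N.subtype.comp K.subtype).codRestrict (MulAction.stabilizer G x) fun k => k.2)) ?_
    intro a b hab
    have h1 : ((a : N) : G) = ((b : N) : G) :=
      congrArg (fun y : MulAction.stabilizer G x => (y : G)) hab
    exact Subtype.ext (Subtype.ext h1)
  refine isSolvable_of_homs ψ (fun j => ?_) K fun n hn => ?_
  · -- the action of the automorphism on the factor
    have hθQ := h.θ_stable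
    have hθ1 : ∀ y, y ∈ Δ.Res J x ↔ t.θ y ∈ Δ.Res J x := fun y => (t.mem_of_θ_mem hθQ).symm
    have hθ2 : ∀ w, w ∈ WJ cs (J \ {(j : I)}) ↔ t.φ w ∈ WJ cs (J \ {(j : I)}) := by
      have hst : t.Stab (J \ {(j : I)}) := fun i hi => by
        rw [S.gd_σ hth h hi.1]; exact hi
      intro w
      refine ⟨t.φ_mem hst, fun hw => ?_⟩
      have := t.φ_mem hst hw
      rwa [t.φφ] at this
    let T : PA Δ J j x := ⟨t.θ, hθ1, fun y _ y' _ => by rw [t.δ_θ]; exact hθ2 _⟩
    let th := res hJ j.2 x T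
    have hTT : T * T = 1 := by
      apply Subtype.ext
      ext y
      exact t.θθ y
    have hth2 : th * th = 1 := by
      change res hJ j.2 x T * res hJ j.2 x T = 1
      rw [← map_mul, hTT, map_one]
    have hfree : ∀ y, th y ≠ y := by
      intro y hy
      have h1 := congrArg Subtype.val hy
      change Δ.proj {(j : I)} x (t.θ y) = y at h1
      have hyQ : (y : C) ∈ Δ.Res J x := mem_Res_of_Pan j.2 y.2
      rw [← proj_of_mem_Pan y.2] at h1
      rw [proj_of_mem_Pan y.2, ← proj_of_mem_Pan y.2,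
        proj_eq_iff hJ j.2 (by rw [proj_of_mem_Pan y.2]; exact (hθ1 _).1 hyQ) hyQ,
        proj_of_mem_Pan y.2] at h1
      have h2 := symm_mem h1
      rw [h.2 _ hyQ] at h2
      have h3 := F.len_wJ_mul (Exchange.simple_mem_WJ cs j.2)
      rw [cs.length_simple] at h3
      exact (F.descent_mem _ _ h2 j (by omega)).2 rfl
    have hthfam : th ∈ famStab (S.fam (j : I) x) := by
      have key : ∀ (y : Δ.Pan (j : I) x) (g : Equiv.Perm (Δ.Pan (j : I) x)),
          g ∈ S.fam (j : I) x y → th * g * th⁻¹ ∈ S.fam (j : I) x (th y) := fun y g hg =>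
        res_mem_fam hJ j.2 S hth T t.τ (fun y _ u hu => S.τ_mem_U_aux t hu)
          (fun u z => t.θ_smul u z) y g hg
      have hinv : th⁻¹ = th := inv_eq_of_mul_eq_one_left hth2
      intro y g
      refine ⟨key y g, fun h1 => ?_⟩
      have h2 := key _ _ h1
      have h3 : th * (th * g * th⁻¹) * th⁻¹ = g := by
        calc th * (th * g * th⁻¹) * th⁻¹ = (th * th) * g * (th⁻¹ * th⁻¹) := by group
          _ = (th * th) * g * (th * th) := by rw [hinv]
          _ = g := by rw [hth2, one_mul, mul_one]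
      have h4 : th (th y) = y := by
        rw [← Equiv.Perm.mul_apply, hth2]; rfl
      rwa [h3, h4] at h2
    have hsolv := hR j j.2 th hthfam hth2 hfree
    have hle : (ψ j).range ≤ famStab (S.fam (j : I) x) ⊓
        Subgroup.centralizer ({th} : Set (Equiv.Perm (Δ.Pan (j : I) x))) := by
      rintro _ ⟨n, rfl⟩
      refine ⟨toPA_mem_famStab hJ j.2 S hth x (inc n), ?_⟩
      refine Subgroup.mem_centralizer_singleton_iff.2 ?_
      change res hJ j.2 x (toPA S J j x (inc n)) * res hJ j.2 x T =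
        res hJ j.2 x T * res hJ j.2 x (toPA S J j x (inc n))
      rw [← map_mul, ← map_mul]
      congr 1
      apply Subtype.ext
      ext y
      change n.1 • t.θ y = t.θ (n.1 • y)
      have h5 : t.τ n.1 = n.1 := n.2.1
      rw [t.θ_smul, h5]
    exact Group.isSolvable_of_isSolvable_injective (Subgroup.inclusion_injective hle)
  · change n.1 • x = x
    have hx : x ∈ Δ.Res J x := Δ.self_mem_Res J x
    have hnx : n.1 • x ∈ Δ.Res J x := by
      have h1 : n.1 • Δ.Res J x = Δ.Res J x := n.2.2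
      rw [← h1]
      exact Set.smul_mem_smul_set hx
    have h1 : ∀ j ∈ J, Δ.δ x (n.1 • x) ∈ WJ cs (J \ {j}) := by
      intro j hj
      have h2 := congrArg (fun f => ((f ⟨x, Δ.self_mem_Pan j x⟩ : Δ.Pan j x) : C)) (hn ⟨j, hj⟩)
      change Δ.proj {j} x (n.1 • x) = x at h2
      have h3 : Δ.proj {j} x x = x := proj_of_mem_Pan (Δ.self_mem_Pan j x)
      rw [← h3] at h2
      have h4 : Δ.proj {j} x (n.1 • x) = Δ.proj {j} x x := by
        rw [h3] at h2
        rw [h2, h3]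
      exact symm_mem ((proj_eq_iff hJ hj hnx hx).1 h4)
    by_contra hne
    have h2 : Δ.δ x (n.1 • x) ≠ 1 := fun h3 => hne (Δ.eq_of_δ_eq_one h3).symm
    obtain ⟨j, hj, hlt⟩ := F.exists_descent (Δ.δ_mem_of_mem_Res hx hnx) h2
    exact (F.descent_mem _ _ (h1 j hj) j hlt).2 rfl

end Cfsg.Agent.FixBN
end

-- part: FixBN/OutSplit
section
/-!
THEOREM FIX + THEOREM OUT for simple groups with a split (B,N)-pair of odd characteristic whose rank one
groups are of type `L2` or `U3`: the hypothesis `SB` of the B-theorem.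
-/

set_option autoImplicit false

open scoped commutatorElement Pointwise

namespace Cfsg.Agent.FixBN

open Cfsg.Agent.Tits.Core Cfsg.Agent.Tits.Core.Bldg Cfsg.Agent.Tits.OfBN Cfsg.Agent.Schreier.BNSch
open Cfsg.Agent.Lib

namespace Split

variable {K : Type*} [Group K] {P : Cfsg.BNPair K} {p : ℕ} {U : Subgroup K}

end Split

/-- The stabiliser of a chamber is solvable. -/
theorem isSolvable_stabilizer {K : Type*} [Group K] {P : Cfsg.BNPair K}
    (h : Group.IsSolvable P.B) (x : K ⧸ P.B) : Group.IsSolvable ↥(MulAction.stabilizer K x) := by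
  induction x using QuotientGroup.induction_on with
  | _ g =>
  have key : ∀ s ∈ MulAction.stabilizer K (QuotientGroup.mk g : K ⧸ P.B), g⁻¹ * s * g ∈ P.B := by
    intro s hs
    exact OfBN.smul_mk_eq.1 hs
  let f : ↥(MulAction.stabilizer K (QuotientGroup.mk g : K ⧸ P.B)) →* ↥P.B :=
    { toFun := fun s => ⟨g⁻¹ * s * g, key s s.2⟩
      map_one' := Subtype.ext (by simp)
      map_mul' := fun a b => Subtype.ext (by
        change g⁻¹ * ((a : K) * (b : K)) * g = g⁻¹ * a * g * (g⁻¹ * b * g)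
        group) }
  refine Group.isSolvable_of_isSolvable_injective (f := f) ?_
  intro a b hab
  have h1 : g⁻¹ * (a : K) * g = g⁻¹ * b * g := congrArg Subtype.val hab
  exact Subtype.ext (mul_left_cancel (mul_right_cancel h1))

/-- There is a good residue. -/
theorem exists_good {I : Type*} {M : CoxeterMatrix I} {W : Type*} [Group W]
    {cs : CoxeterSystem M W} {C : Type*} {Δ : Bldg cs C} {G : Type*} [Group G] [MulAction G C]
    (t : Tw Δ G) [F : Tits.OppRes.Cox cs] (x : C) : ∃ J y, t.Gd J y := by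
  obtain ⟨K, _, y, _, h⟩ := Tw.exists_gd (t := t) (J := Set.univ) (fun _ _ => trivial) (x := x)
    (by rw [Δ.Res_univ]; trivial)
  exact ⟨K, y, h⟩

/-- (R1): the root groups of every panel form a good family. -/
def AllGood {K : Type*} [Group K] [Finite K] {p : ℕ} [Fact p.Prime] {P : Cfsg.BNPair K}
    {U : Subgroup K} (h : Split P p U) : Prop :=
  ∀ (_ : ((P.B ⊓ P.N).subgroupOf P.N).Normal) (M : CoxeterMatrix P.S)
    (cs : CoxeterSystem M (WP P)) (hcs : ∀ i, cs.simple i =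
      QuotientGroup.mk (⟨((Equiv.refl P.S i : P.S) : K), P.subset (Equiv.refl P.S i).2⟩ : P.N))
    (i : P.S) (x : K ⧸ P.B), GoodFam ((OfBN.sys (Equiv.refl P.S) cs hcs h).fam i x)

theorem GoodSplit.allGood {K : Type*} [Group K] [Finite K] {p : ℕ} [hp : Fact p.Prime]
    {P : Cfsg.BNPair K} {U : Subgroup K} (h : GoodSplit P p U) : AllGood h.toSplit :=
  fun _ _ cs hcs i x => GoodNode.goodFam h.toSplit (Equiv.refl P.S) cs hcs (h.good i i.2) x

/-- **THEOREM OUT** for the split (B,N)-pairs of odd characteristic. -/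
theorem out_of_allGood {K : Type*} [Group K] [Finite K] {p : ℕ} [hp : Fact p.Prime] (hp2 : p ≠ 2)
    {P : Cfsg.BNPair K} {U : Subgroup K} (h : Split P p U) (hB : Group.IsSolvable P.B)
    (hR : AllGood h) (τ : K ≃* K) (hτ : ∀ g, τ (τ g) = g) {L : Subgroup K}
    (hL : L ≤ Reduce.fixSub τ) (hLp : ⁅L, L⁆ = L) :
    L ≤ PComponents.pElem p (Reduce.fixSub τ) := by
  have hN : ((P.B ⊓ P.N).subgroupOf P.N).Normal := normal_subgroupOf P
  obtain ⟨M, cs, hcs⟩ := S0320.result P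
  obtain ⟨t, ht⟩ := TwOfBN.exists_tw h (Equiv.refl P.S) cs hcs τ hτ
  have hI : Finite P.S := OfBN.finite_I (Equiv.refl P.S)
  have hth := thick P (Equiv.refl P.S) cs hcs
  have hcent : t.cent = Reduce.fixSub τ := by
    ext g
    rw [t.mem_cent, ht]
    exact Iff.rfl
  obtain ⟨J, x, hgd⟩ := exists_good t (QuotientGroup.mk 1)
  let S := OfBN.sys (Equiv.refl P.S) cs hcs h
  have h4 := Sys.isSolvable_stab S hth hgd
    (isSolvable_stabilizer hB x) (fun j _ => hR hN M cs hcs j x)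
  rw [← hcent] at hL ⊢
  exact Tw.out S hth hp2 hgd
    (fun g hg hn => Tw.sq_smul_Res S hth hp2 hgd hg hn)
    (fun g hg hn c hc hcx => Tw.conj_smul_Res S hth hp2 hgd hg hn hc hcx) h4 hL hLp

/-- **SB** for the simple groups with a split (B,N)-pair of odd characteristic. -/
theorem sb_of_allGood {K : Type*} [Group K] [Finite K] [hs : IsSimpleGroup K] {p : ℕ}
    [hp : Fact p.Prime] (hp2 : p ≠ 2) {P : Cfsg.BNPair K} {U : Subgroup K}
    (h : Split P p U) (hB : Group.IsSolvable P.B) (hR : AllGood h) : Reduce.SB K := by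
  refine Reduce.sb_of_fix fun τ hτ _ => ⟨p, ?_, ?_⟩
  · intro W hW hWn hWo v hv hvn w hw
    exact (fix_of_split hp2 h τ hτ (X := W) (fun x hx => hW hx)
      (fun g hg x hx => hWn g hg x hx) hWo).2 v hv hvn w hw
  · intro L hL hLp
    exact out_of_allGood hp2 h hB hR τ hτ hL hLp

theorem GoodSplit.out {K : Type*} [Group K] [Finite K] {p : ℕ} [hp : Fact p.Prime] (hp2 : p ≠ 2)
    {P : Cfsg.BNPair K} {U : Subgroup K} (h : GoodSplit P p U) (τ : K ≃* K)
    (hτ : ∀ g, τ (τ g) = g) {L : Subgroup K} (hL : L ≤ Reduce.fixSub τ) (hLp : ⁅L, L⁆ = L) :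
    L ≤ PComponents.pElem p (Reduce.fixSub τ) :=
  out_of_allGood hp2 h.toSplit h.solv h.allGood τ hτ hL hLp

/-- **SB** for the simple groups of Lie type of odd characteristic (except the Ree groups). -/
theorem GoodSplit.sb {K : Type*} [Group K] [Finite K] [hs : IsSimpleGroup K] {p : ℕ}
    [hp : Fact p.Prime] (hp2 : p ≠ 2) {P : Cfsg.BNPair K} {U : Subgroup K}
    (h : GoodSplit P p U) : Reduce.SB K :=
  sb_of_allGood hp2 h.toSplit h.solv h.allGood

theorem HasGoodSplit.sb {K : Type*} [Group K] [Finite K] [hs : IsSimpleGroup K] {p : ℕ}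
    [hp : Fact p.Prime] (hp2 : p ≠ 2) (h : HasGoodSplit p K) : Reduce.SB K := by
  obtain ⟨P, U, _, h⟩ := h
  exact h.sb hp2

end Cfsg.Agent.FixBN
end

private theorem dce_16724dbcd31a : _root_.True := by
  try have : _root_.True := by simp only [_root_.Cfsg.Agent.FixBN.RankProd.res.congr_simp]
  exact _root_.True.intro
end

-- part: FixBN/TwGood
section
set_option linter.all false
open scoped Cfsg.Agent.FastGrp

-- part: FixBN/ChevSB
section
/-!
helper617: `SB` for the exceptional Chevalley groups of odd characteristic (input of U3-LIE).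
-/

set_option autoImplicit false

namespace Cfsg.Agent.FixBN.ChevGood

open Cfsg Cfsg.Lie Cfsg.Agent.ChevalleyStructure.CoxeterGeomTypes Cfsg.Agent.Nodes.RGDChev Cfsg.Agent.FixBN

theorem sb_of_equiv {G : Type*} [Group G] [IsSimpleGroup G] {D : ChevalleyDatum} {l : ℕ}
    {M : CoxeterMatrix (Fin l)} (hp : IsType D l M) [Nonempty (Fin l)] {K : Type} [Field K] [Finite K] {p : ℕ}
    [CharP K p] (hp2 : p ≠ 2) (e : G ≃* ↥(D.group K)) : Reduce.SB G := by
  have : IsSimpleGroup ↥(D.group K) := e.symm.isSimpleGroup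
  have : Fact p.Prime := ⟨CharP.char_is_prime K p⟩
  exact Reduce.SB.congr e.symm ((hasGoodSplit_group K p hp2 hp).sb hp2)

/-- **`SB` for the exceptional Chevalley groups of odd characteristic.** -/
theorem sb_of_exceptional {p : ℕ} (hp2 : p ≠ 2) {G : Type*} [Group G] [IsSimpleGroup G]
    (hG : IsExceptionalChevChar p G) : Reduce.SB G := by
  obtain ⟨F, _, _, _, ⟨-, ⟨e⟩⟩ | ⟨⟨e⟩⟩ | ⟨⟨e⟩⟩ | ⟨⟨e⟩⟩ | ⟨⟨e⟩⟩⟩ := hG
  · exact sb_of_equiv (l := 2) (M := CoxeterMatrix.G₂) (by simp [IsType, typeList]) hp2 e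
  · exact sb_of_equiv (l := 4) (M := CoxeterMatrix.F₄) (by simp [IsType, typeList]) hp2 e
  · exact sb_of_equiv (l := 6) (M := CoxeterMatrix.E₆) (by simp [IsType, typeList]) hp2 e
  · exact sb_of_equiv (l := 7) (M := CoxeterMatrix.E₇) (by simp [IsType, typeList]) hp2 e
  · exact sb_of_equiv (l := 8) (M := CoxeterMatrix.E₈) (by simp [IsType, typeList]) hp2 e

end Cfsg.Agent.FixBN.ChevGood
end

-- part: FixBN/TwGood
section
/-!
The twisted groups `³D₄(q)`, `²E₆(q)` of odd characteristic have good split (B, N)-pairs, hence satisfy `SB`.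
-/

set_option autoImplicit false
set_option linter.unusedSectionVars false
set_option maxHeartbeats 400000

namespace Cfsg.Agent.FixBN.TwGood

open CoxeterSystem Cfsg.Agent.ChevalleyStructure.CoxeterGeom Cfsg.Agent.Tits.Roots Cfsg.Agent.Tits.Core
  Cfsg.Agent.Tits.RootComb Cfsg.Agent.Nodes.Comb Cfsg.Agent.Nodes.Reps Cfsg.Agent.Nodes.BNOf Cfsg.Agent.Nodes.BNOf.RGD
open Cfsg.Lie Cfsg.Agent.ChevalleyStructure Cfsg.Agent.ChevalleyStructure.Elts
  Cfsg.Agent.Nodes.RGDChev Cfsg.Agent.Nodes.RGDFold Cfsg.Agent.Nodes.RGDFoldSL Cfsg.Agent.FixBN.FieldRGD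
open scoped MatrixGroups

section Fold

variable {D : ChevalleyDatum} {l : ℕ} {M' : CoxeterMatrix (Fin l)} {hp : IsType D l M'} {K : Type} [Field K]
  {m : ℕ} {M : CoxeterMatrix (Fin m)} {W : Type*} [Group W] (cs : CoxeterSystem M W)
  {A : Fin m → Fin m → ℤ} (h : IsCartan M A)
  {J : Fin m → List (Fin l)} {L : List (List ℕ)} {σ : GL D.Idx K →* GL D.Idx K} {ρ ρ' : ℕ → ℕ}
  {f : ℕ → K → K} {G : Subgroup (GL D.Idx K)}

theorem slNode_fold [Finite K] (FG : FoldGrp hp K J L σ ρ ρ' f G) {i : Fin m} {r : ℕ}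
    {o : List ℕ} (N : NodeOK D J L ρ i r o) {φ : K →+* K} (hf : ∀ s ∈ r :: o, ∀ t, f s t = φ t)
    (h2 : (2 : K) ≠ 0) :
    SLNode cs h ((D.diagonalSubgroup K ⊓ G).subgroupOf G) (fun i => (⟨nI hp K (J i), FG.nG i⟩ : ↥G))
      (fun z => (R D hp K J σ z).subgroupOf G) i := by
  have huu : ∀ a : Fx φ (o.length + 1), uu a = SL2Hom.up a := fun a => rfl
  refine ⟨Fx φ (o.length + 1), inferInstance, inferInstance, Phi FG N hf, 1, one_ne_zero, ?_, ?_, ?_, ?_, ?_⟩
  · intro h0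
    apply h2
    have h3 : ((2 : Fx φ (o.length + 1)) : K) = 0 := by rw [h0]; rfl
    exact h3
  · intro y
    rw [mem_X_iff FG N hf]
    exact ⟨fun ⟨a, e⟩ => ⟨a, e.symm⟩, fun ⟨a, e⟩ => ⟨a, e.symm⟩⟩
  · intro a ha
    refine Phi_up_injective FG N hf ?_
    show Phi FG N hf (SL2Hom.up a) = Phi FG N hf (SL2Hom.up 0)
    have h3 : (SL2Hom.up (0 : Fx φ (o.length + 1))) = 1 := by
      apply Subtype.ext
      show (!![1, 0; 0, 1] : Matrix (Fin 2) (Fin 2) _) = 1
      exact Matrix.one_fin_two.symm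
    rw [h3, map_one]
    exact ha
  · intro c hc
    refine T_le_B ?_
    have h3 : dd c hc = hS c := by
      apply Subtype.ext
      exact (coe_hS hc).symm
    rw [h3]
    exact Phi_hS FG N hf hc
  · have h3 : ww (1 : Fx φ (o.length + 1)) one_ne_zero = wS 1 := by
      apply Subtype.ext
      exact (coe_wS one_ne_zero).symm
    rw [h3]
    exact Phi_wS FG N hf

theorem isSolvable_T (hp : IsType D l M') : Group.IsSolvable ((D.diagonalSubgroup K ⊓ G).subgroupOf G) := by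
  apply Group.isSolvable_of_comm
  rintro ⟨a, ha⟩ ⟨b, hb⟩
  apply Subtype.ext
  apply Subtype.ext
  exact ChevGood.diag_comm K hp (Subgroup.mem_subgroupOf.1 ha).1 (Subgroup.mem_subgroupOf.1 hb).1

theorem two_ne {p : ℕ} [CharP K p] (hp2 : p ≠ 2) [Finite K] : (2 : K) ≠ 0 := by
  have hpp : p.Prime := CharP.char_is_prime K p
  intro h0
  have h1 : ((2 : ℕ) : K) = 0 := by exact_mod_cast h0
  rw [CharP.cast_eq_zero_iff K p] at h1
  exact hp2 ((Nat.prime_dvd_prime_iff_eq hpp Nat.prime_two).1 h1)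

theorem hasGoodSplit_fold [Finite K] (p : ℕ) [CharP K p] (hp2 : p ≠ 2) [Nonempty (Fin m)] [IsSimpleGroup ↥G]
    (h : IsCartan M A)
    (FD : FoldData D M A J L) (FG : FoldGrp hp K J L σ ρ ρ' f G) (r : Fin m → ℕ) (o : Fin m → List ℕ)
    (N : ∀ i, NodeOK D J L ρ i (r i) (o i)) {φ : K →+* K} (hf : ∀ i, ∀ s ∈ r i :: o i, ∀ t, f s t = φ t) :
    HasGoodSplit p ↥G := by
  have hpp : p.Prime := CharP.char_is_prime K p
  have : Fact p.Prime := ⟨hpp⟩
  have : Finite M.Group := finite_W (hp := hp) M.toCoxeterSystem h FD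
  have hR := Nodes.RGDFold.rgd M.toCoxeterSystem h FD FG p
  have hgen := Cfsg.Agent.Nodes.RGDLib.rgd_gen_of_G1 hR (Nodes.RGDFold.G1_eq_top M.toCoxeterSystem h FD FG p)
  exact hasGoodSplit_of_rgd hpp hR hgen (isSolvable_T hp) fun i =>
    goodNode_of_sl hR hgen (slNode_fold M.toCoxeterSystem h FG (N i) (hf i) (two_ne hp2))

end Fold

/-- **`³D₄(q)`, `q` odd.** -/
theorem hasGoodSplit_D4 {K : Type} [Field K] [Fintype K] {q : ℕ} (hq : IsPrimePow q) (hK : Fintype.card K = q ^ 3)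
    (p : ℕ) [CharP K p] (hp2 : p ≠ 2) : HasGoodSplit p ↥(twistedD4 K q) := by
  obtain ⟨φ, hφ⟩ := D4Fixed.exists_frob hq hK
  have : IsSimpleGroup ↥(twistedD4 K q) := (Cfsg.Agent.S1071.result hq hK).1
  exact hasGoodSplit_fold p hp2 Nodes.RGDTwD4.isCartan Nodes.RGDTwD4.foldData
    (Nodes.RGDTwD4.foldGrp hφ (D4Fixed.twisted_le_fix hK hφ)) _ _ Nodes.RGDTwNode.D4.nodeOK (φ := φ)
    fun i s hs t => by rw [Nodes.RGDTwNode.D4.eps_one i s hs, Int.cast_one, one_mul]

/-- **`²E₆(q)`, `q` odd.** -/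
theorem hasGoodSplit_E6 {K : Type} [Field K] [Fintype K] {q : ℕ} (hq : IsPrimePow q) (hK : Fintype.card K = q ^ 2)
    (p : ℕ) [CharP K p] (hp2 : p ≠ 2) : HasGoodSplit p ↥(twistedE6 K q) := by
  obtain ⟨φ, hφ, hqq⟩ := TwE6Basic.exists_frob hq hK
  have : IsSimpleGroup ↥(twistedE6 K q) := (Cfsg.Agent.S1070.result hq hK).1
  exact hasGoodSplit_fold p hp2 Nodes.RGDTwE6.isCartan Nodes.RGDTwE6.foldData
    (Nodes.RGDTwE6.foldGrp hφ hqq) _ _ Nodes.RGDTwNode.E6.nodeOK (φ := φ)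
    fun i s hs t => by rw [Nodes.RGDTwNode.E6.eps_one i s hs, Int.cast_one, one_mul]

/-- **`SB` for `³D₄(q)`, `²E₆(q)`, `q` odd.** -/
theorem sb_of_twisted {p : ℕ} (hp2 : p ≠ 2) {G : Type*} [Group G] [IsSimpleGroup G] (hG : IsTwistedE6D4Char p G) :
    Reduce.SB G := by
  obtain ⟨K, _, _, _, q, hq, ⟨hK, ⟨e⟩⟩ | ⟨hK, ⟨e⟩⟩⟩ := hG
  · have : IsSimpleGroup ↥(twistedE6 K q) := (Cfsg.Agent.S1070.result hq hK).1
    have : Fact p.Prime := ⟨CharP.char_is_prime K p⟩
    exact Reduce.SB.congr e.symm ((hasGoodSplit_E6 hq hK p hp2).sb hp2)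
  · have : IsSimpleGroup ↥(twistedD4 K q) := (Cfsg.Agent.S1071.result hq hK).1
    have : Fact p.Prime := ⟨CharP.char_is_prime K p⟩
    exact Reduce.SB.congr e.symm ((hasGoodSplit_D4 hq hK p hp2).sb hp2)

end Cfsg.Agent.FixBN.TwGood
end
end

-- part: H460/Typed
section
set_option linter.all false

/-!
# Groups with a typed root group datum (helper460, AA-engine)

* `LNode P U s Q` : the node `s` is a node over a field (`FieldNode`, `Q = |F|`) or of unitary type (`UNode`, `Q = q ^ 3`);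
  any characteristic;
* `HasTyped p K M Q` : `K` has a root group datum of characteristic `p` and type `M` with such nodes, the panels of type
  `i` have `Q i + 1` chambers.
-/

set_option autoImplicit false

namespace Cfsg.Agent.H460.Typed

open CoxeterSystem Cfsg.Agent.ChevalleyStructure.CoxeterGeom Cfsg.Agent.Tits.Roots Cfsg.Agent.Tits.Core
  Cfsg.Agent.Tits.RootComb Cfsg.Agent.Nodes.Comb Cfsg.Agent.Nodes.Reps Cfsg.Agent.Nodes.BNOf Cfsg.Agent.Nodes.BNOf.RGD
  Cfsg.Agent.Schreier.BNSch Cfsg.Agent.FixBN Cfsg.Agent.FixBN.U3Model Cfsg.Agent.FixBN.UNode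

/-- The node `s` is of type `L₂(Q)` or `U₃(q)`, `Q = q ^ 3`. -/
def LNode {K : Type*} [Group K] (P : Cfsg.BNPair K) (U : Subgroup K) (s : K) (Q : ℕ) : Prop :=
  ∃ V : Subgroup K, Node P U s V ∧
    ((∃ (F : Type) (_ : Field F) (_ : Finite F), Nat.card F = Q ∧ Nonempty (FieldNode P U s V F)) ∨
      (∃ (F : Type) (_ : Field F) (_ : Finite F) (σ : F →+* F) (_ : Inv2 σ) (q : ℕ),
        (∃ x, σ x ≠ x) ∧ Nat.card F = q ^ 2 ∧ Q = q ^ 3 ∧ Nonempty (UNode P U s V σ)))

/-- `K` has a root group datum of characteristic `p` and Coxeter matrix `M`; the panels of type `i` have `Q i + 1`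
chambers and are of type `L₂` or `U₃`. -/
def HasTyped (p : ℕ) (K : Type*) [Group K] {l : ℕ} (M : CoxeterMatrix (Fin l)) (Q : Fin l → ℕ) : Prop :=
  ∃ (A : Fin l → Fin l → ℤ) (h : IsCartan M A) (T : Subgroup K) (n : Fin l → K)
    (X : (Fin l → ℤ) → Subgroup K) (_ : Finite M.Group) (R : RGD M.toCoxeterSystem h p T n X)
    (hgen : RGD.B M.toCoxeterSystem h T X ⊔ NN M.toCoxeterSystem R.nsys = ⊤), Group.IsSolvable T ∧
      ∀ i, LNode (R.bnPair hgen) (RGD.Sup X (RGD.Pos M.toCoxeterSystem h)) (n i) (Q i)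

end Cfsg.Agent.H460.Typed
end

-- part: H185/TypedTw
section
set_option linter.all false
open scoped Cfsg.Agent.FastGrp

/-!
# Typed root group data: the groups `²E₆(q)`, `³D₄(q)` (all characteristics)

* `FNode P U s Q` : the node `s` is a node over a field with `Q` elements; `FNode.lnode`;
* `fnode_of_sl` : from a homomorphism of `SL(2, F)` onto the rank one group;
* `HasFTyped` : as `HasTyped`, with all nodes over fields;
* `ftyped_fold`, `ftyped_2E6`, `ftyped_3D4`, `typed_2E6`, `typed_3D4`.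
-/

set_option autoImplicit false
set_option linter.unusedSectionVars false
set_option maxHeartbeats 400000

namespace Cfsg.Agent.H185.TypedTw

open CoxeterSystem Cfsg.Agent.ChevalleyStructure.CoxeterGeom Cfsg.Agent.Tits.Roots Cfsg.Agent.Tits.Core
  Cfsg.Agent.Tits.RootComb Cfsg.Agent.Nodes.Comb Cfsg.Agent.Nodes.Reps Cfsg.Agent.Nodes.BNOf Cfsg.Agent.Nodes.BNOf.RGD
  Cfsg.Agent.Schreier.BNSch Cfsg.Agent.FixBN Cfsg.Agent.FixBN.U3Model Cfsg.Agent.FixBN.UNode
open Cfsg.Agent.H460.Typed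
open Cfsg.Agent.FixBN.FieldRGD
open scoped MatrixGroups

/-- The node `s` is of type `L₂(Q)`. -/
def FNode {K : Type*} [Group K] (P : Cfsg.BNPair K) (U : Subgroup K) (s : K) (Q : ℕ) : Prop :=
  ∃ V : Subgroup K, Node P U s V ∧
    ∃ (F : Type) (_ : Field F) (_ : Finite F), Nat.card F = Q ∧ Nonempty (FieldNode P U s V F)

theorem FNode.lnode {K : Type*} [Group K] {P : Cfsg.BNPair K} {U : Subgroup K} {s : K} {Q : ℕ}
    (h : FNode P U s Q) : LNode P U s Q := by
  obtain ⟨V, hV, h1⟩ := h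
  exact ⟨V, hV, Or.inl h1⟩

/-- `HasTyped` with all nodes over fields. -/
def HasFTyped (p : ℕ) (K : Type*) [Group K] {l : ℕ} (M : CoxeterMatrix (Fin l)) (Q : Fin l → ℕ) : Prop :=
  ∃ (A : Fin l → Fin l → ℤ) (h : IsCartan M A) (T : Subgroup K) (n : Fin l → K)
    (X : (Fin l → ℤ) → Subgroup K) (_ : Finite M.Group) (R : RGD M.toCoxeterSystem h p T n X)
    (hgen : RGD.B M.toCoxeterSystem h T X ⊔ NN M.toCoxeterSystem R.nsys = ⊤), Group.IsSolvable T ∧
      ∀ i, FNode (R.bnPair hgen) (RGD.Sup X (RGD.Pos M.toCoxeterSystem h)) (n i) (Q i)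

theorem HasFTyped.typed {p : ℕ} {K : Type*} [Group K] {l : ℕ} {M : CoxeterMatrix (Fin l)} {Q : Fin l → ℕ}
    (H : HasFTyped p K M Q) : HasTyped p K M Q := by
  obtain ⟨A, h, T, n, X, hW, R, hgen, hT, hN⟩ := H
  exact ⟨A, h, T, n, X, hW, R, hgen, hT, fun i => (hN i).lnode⟩

section SL

variable {I W Y : Type*} [Fintype I] [DecidableEq I] [Group W] [Group Y] {M : CoxeterMatrix I}
  {cs : CoxeterSystem M W} {A : I → I → ℤ} {h : IsCartan M A} {p : ℕ} {T : Subgroup Y} {n : I → Y}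
  {X : (I → ℤ) → Subgroup Y} [Finite W]

/-- A homomorphism of `SL(2, F)` onto the rank one group of the node `i`. -/
theorem fnode_of_sl (R : RGD cs h p T n X) (hgen : RGD.B cs h T X ⊔ NN cs R.nsys = ⊤) {i : I}
    {F : Type} [Field F] [Finite F] (φ : SL(2, F) →* Y) {b : F} (hb : b ≠ 0)
    (hr : ∀ y, y ∈ X (sr i) ↔ ∃ a, φ (uu a) = y) (hi : ∀ a, φ (uu a) = 1 → a = 0)
    (hd : ∀ c hc, φ (dd c hc) ∈ RGD.B cs h T X) (hw : φ (ww b hb) = n i) :
    FNode (R.bnPair hgen) (Sup X (Pos cs h)) (n i) (Nat.card F) := by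
  refine ⟨_, NodeRGD.node R hgen i, F, inferInstance, inferInstance, rfl, ⟨?_⟩⟩
  refine fieldNode_of_rgd R hgen i (fun a => φ (uu (b * a))) (fun a c => ?_) (fun y => ?_) (fun a ha => ?_)
    (fun a ha => ?_)
  · rw [mul_add, uu_add, map_mul]
  · rw [hr]
    constructor
    · rintro ⟨a, rfl⟩
      exact ⟨b⁻¹ * a, by rw [mul_inv_cancel_left₀ hb]⟩
    · rintro ⟨a, rfl⟩
      exact ⟨_, rfl⟩
  · exact (mul_eq_zero.1 (hi _ ha)).resolve_left hb
  · show (φ (uu (b * -a⁻¹)) * n i)⁻¹ * (n i * φ (uu (b * a)) * n i) ∈ _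
    rw [← hw, ← map_mul, ← map_mul, ← map_mul, ← map_inv, ← map_mul, inv_key ha hb, map_mul]
    exact mul_mem (hd _ _) (U_le_B (mem_U ((hr _).2 ⟨_, rfl⟩)))

end SL

section Fold

open Cfsg.Lie Cfsg.Agent.ChevalleyStructure Cfsg.Agent.ChevalleyStructure.Elts
  Cfsg.Agent.Nodes.RGDChev Cfsg.Agent.Nodes.RGDFold Cfsg.Agent.Nodes.RGDFoldSL

variable {D : ChevalleyDatum} {l : ℕ} {M' : CoxeterMatrix (Fin l)} {hp : IsType D l M'} {K : Type} [Field K]
  {m : ℕ} {M : CoxeterMatrix (Fin m)} {A : Fin m → Fin m → ℤ}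
  {J : Fin m → List (Fin l)} {L : List (List ℕ)} {σ : GL D.Idx K →* GL D.Idx K} {ρ ρ' : ℕ → ℕ}
  {f : ℕ → K → K} {G : Subgroup (GL D.Idx K)}

/-- **Folded groups.** -/
theorem ftyped_fold [Finite K] (p : ℕ) [Fact p.Prime] [CharP K p] (h : IsCartan M A)
    (FD : FoldData D M A J L) (FG : FoldGrp hp K J L σ ρ ρ' f G) (r : Fin m → ℕ) (o : Fin m → List ℕ)
    (N : ∀ i, NodeOK D J L ρ i (r i) (o i)) {φ : K →+* K} (hf : ∀ i, ∀ s ∈ r i :: o i, ∀ t, f s t = φ t) :
    HasFTyped p ↥G M (fun i => Nat.card (Fx φ ((o i).length + 1))) := by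
  have hW : Finite M.Group := finite_W (hp := hp) M.toCoxeterSystem h FD
  have hR := Nodes.RGDFold.rgd M.toCoxeterSystem h FD FG p
  have hgen := Cfsg.Agent.Nodes.RGDLib.rgd_gen_of_G1 hR (Nodes.RGDFold.G1_eq_top M.toCoxeterSystem h FD FG p)
  refine ⟨A, h, _, _, _, hW, hR, hgen, Cfsg.Agent.FixBN.TwGood.isSolvable_T hp, fun i => ?_⟩
  refine fnode_of_sl hR hgen (Phi FG (N i) (hf i)) (b := 1) one_ne_zero ?_ ?_ ?_ ?_
  · intro y
    rw [mem_X_iff FG (N i) (hf i)]
    exact ⟨fun ⟨a, e⟩ => ⟨a, e.symm⟩, fun ⟨a, e⟩ => ⟨a, e.symm⟩⟩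
  · intro a ha
    refine Phi_up_injective FG (N i) (hf i) ?_
    show Phi FG (N i) (hf i) (SL2Hom.up a) = Phi FG (N i) (hf i) (SL2Hom.up 0)
    have h3 : (SL2Hom.up (0 : Fx φ ((o i).length + 1))) = 1 := by
      apply Subtype.ext
      show (!![1, 0; 0, 1] : Matrix (Fin 2) (Fin 2) _) = 1
      exact Matrix.one_fin_two.symm
    rw [h3, map_one]
    exact ha
  · intro c hc
    refine T_le_B ?_
    have h3 : dd c hc = hS c := by
      apply Subtype.ext
      exact (coe_hS hc).symm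
    rw [h3]
    exact Phi_hS FG (N i) (hf i) hc
  · have h3 : ww (1 : Fx φ ((o i).length + 1)) one_ne_zero = wS 1 := by
      apply Subtype.ext
      exact (coe_wS one_ne_zero).symm
    rw [h3]
    exact Phi_wS FG (N i) (hf i)

/-- the order of the fixed field of `φ` -/
theorem card_Fx_one [Fintype K] {q k : ℕ} (hq : 1 < q) (hK : Fintype.card K = q ^ k) {φ : K →+* K}
    (hφ : ∀ x, φ x = x ^ q) : Nat.card (Fx φ 1) = q := by
  have h1 : Nat.card (Fx φ 1)ˣ = q - 1 := by
    rw [← Cfsg.Agent.ChevalleyStructure.D4H1.card_fixed hq hK hφ]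
    have key : ∀ b : (Fx φ 1), φ (b : K) = b := fun b => by
      have := mem_Fx.1 b.2
      rwa [Function.iterate_one] at this
    refine Nat.card_congr
      { toFun := fun b => ⟨Units.map (Fx φ 1).subtype.toMonoidHom b, key b⟩
        invFun := fun b => Units.mk0 ⟨(b.1 : K), mem_Fx.2 (by rw [Function.iterate_one]; exact b.2)⟩
          (fun h => b.1.ne_zero (congrArg Subtype.val h))
        left_inv := fun b => Units.ext rfl
        right_inv := fun b => Subtype.ext (Units.ext rfl) }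
  rw [Nat.card_units] at h1
  have h2 : 0 < Nat.card (Fx φ 1) := Nat.card_pos
  omega

/-- the fixed field of a power of `φ` which is the identity -/
theorem card_Fx_top [Finite K] {φ : K →+* K} {k : ℕ} (h : ∀ x, φ^[k] x = x) : Nat.card (Fx φ k) = Nat.card K := by
  have h1 : Fx φ k = ⊤ := by
    rw [eq_top_iff]
    intro a _
    exact mem_Fx.2 (h a)
  rw [h1]
  exact Nat.card_congr Subfield.topEquiv.toEquiv

end Fold

open Cfsg.Lie Cfsg.Agent.ChevalleyStructure
open Cfsg.Agent.Nodes.RGDFoldSL (Fx)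

/-- **`³D₄(q)`.** -/
theorem ftyped_3D4 (K : Type) [Field K] [Finite K] {p : ℕ} [Fact p.Prime] [CharP K p] {q : ℕ} (hq : IsPrimePow q)
    (hK : Nat.card K = q ^ 3) : HasFTyped p ↥(twistedD4 K q) CoxeterMatrix.G₂ ![q, q ^ 3] := by
  have := Fintype.ofFinite K
  rw [Nat.card_eq_fintype_card] at hK
  obtain ⟨φ, hφ⟩ := D4Fixed.exists_frob hq hK
  have h1 := ftyped_fold p Nodes.RGDTwD4.isCartan Nodes.RGDTwD4.foldData
    (Nodes.RGDTwD4.foldGrp hφ (D4Fixed.twisted_le_fix hK hφ)) _ _ Nodes.RGDTwNode.D4.nodeOK (φ := φ)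
    fun i s hs t => by rw [Nodes.RGDTwNode.D4.eps_one i s hs, Int.cast_one, one_mul]
  have h2 : (fun i => Nat.card (Fx φ ((Nodes.RGDTwNode.D4.rest i).length + 1))) = ![q, q ^ 3] := by
    funext i
    fin_cases i
    · exact card_Fx_one hq.one_lt hK hφ
    · show Nat.card (Fx φ 3) = q ^ 3
      rw [card_Fx_top, Nat.card_eq_fintype_card, hK]
      intro x
      show φ (φ (φ x)) = x
      rw [hφ, hφ, hφ, ← pow_mul, ← pow_mul]
      have h3 := FiniteField.pow_card x
      rw [hK] at h3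
      have h4 : q * (q * q) = q ^ 3 := by ring
      rw [h4, h3]
  rw [← h2]
  exact h1

/-- **`²E₆(q)`.** -/
theorem ftyped_2E6 (K : Type) [Field K] [Finite K] {p : ℕ} [Fact p.Prime] [CharP K p] {q : ℕ} (hq : IsPrimePow q)
    (hK : Nat.card K = q ^ 2) : HasFTyped p ↥(twistedE6 K q) CoxeterMatrix.F₄ ![q, q, q ^ 2, q ^ 2] := by
  have := Fintype.ofFinite K
  rw [Nat.card_eq_fintype_card] at hK
  obtain ⟨φ, hφ, hqq⟩ := TwE6Basic.exists_frob hq hK
  have h1 := ftyped_fold p Nodes.RGDTwE6.isCartan Nodes.RGDTwE6.foldData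
    (Nodes.RGDTwE6.foldGrp hφ hqq) _ _ Nodes.RGDTwNode.E6.nodeOK (φ := φ)
    fun i s hs t => by rw [Nodes.RGDTwNode.E6.eps_one i s hs, Int.cast_one, one_mul]
  have h0 : Nat.card (Fx φ 2) = q ^ 2 := by
    rw [card_Fx_top, Nat.card_eq_fintype_card, hK]
    intro x
    show φ (φ x) = x
    rw [hφ, hφ]
    exact hqq x
  have h2 : (fun i => Nat.card (Fx φ ((Nodes.RGDTwNode.E6.rest i).length + 1))) = ![q, q, q ^ 2, q ^ 2] := by
    funext i
    fin_cases i
    · exact card_Fx_one hq.one_lt hK hφ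
    · exact card_Fx_one hq.one_lt hK hφ
    · exact h0
    · exact h0
  rw [← h2]
  exact h1

end Cfsg.Agent.H185.TypedTw
end
end
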