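import Mathlib
import Cfsg.Agent.H185.OrthCent
set_option linter.all false

/-!
# `kappa` and field extensions (helper185)

`j : F₀ → F` an embedding of fields.

* `bc j U` : the subspace of `F^ι` spanned by the image of the subspace `U` of `F₀^ι`; `finrank_bc`, `finrank_bc_inf`;
* `lag_bc`, `neutral_bc` : totally singular subspaces and neutral forms after extension of the field;
* `kappa_mapSim` : `kappa h (simGam Q (mapSim hx g)) = kappa h₀ (simGam Q₀ g)`;
* `preserves_mapSim_iff` : `PreservesSingularClasses` of `mp j g` over `F` iff of `g` over `F₀`.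
-/

set_option autoImplicit false
set_option linter.unusedSectionVars false

namespace Cfsg.Agent.H185.ExtKappa

open Module Matrix QuadraticMap Cfsg.Agent.LieClassical.OrthCore Cfsg.Agent.LieClassical.OrthTrans
  Cfsg.Agent.ClassicalGeometry.OrthSemi Cfsg.Agent.H198.Classes
  Cfsg.Agent.H198.OrthFrame Cfsg.Agent.H198.ClassesPlus Cfsg.Agent.H185.OrthCent

universe u v

variable {ι : Type} [Fintype ι] [DecidableEq ι] {F : Type u} [Field F] {F₀ : Type v} [Field F₀]

/-- A vector over the small field, read over the large one. -/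
def jv (j : F₀ →+* F) (v : ι → F₀) : ι → F := fun i => j (v i)

theorem jv_add (j : F₀ →+* F) (u v : ι → F₀) : jv j (u + v) = jv j u + jv j v := by
  funext i; exact map_add j _ _

theorem jv_smul (j : F₀ →+* F) (a : F₀) (v : ι → F₀) : jv j (a • v) = j a • jv j v := by
  funext i; exact map_mul j _ _

theorem jv_zero (j : F₀ →+* F) : jv j (0 : ι → F₀) = 0 := by
  funext i; exact map_zero j

/-- Extension of scalars for a subspace. -/
def bc (j : F₀ →+* F) (U : Submodule F₀ (ι → F₀)) : Submodule F (ι → F) :=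
  Submodule.span F (jv j '' (U : Set (ι → F₀)))

theorem jv_mem_bc {j : F₀ →+* F} {U : Submodule F₀ (ι → F₀)} {u : ι → F₀} (hu : u ∈ U) : jv j u ∈ bc j U :=
  Submodule.subset_span ⟨u, hu, rfl⟩

theorem bc_mono {j : F₀ →+* F} {U W : Submodule F₀ (ι → F₀)} (h : U ≤ W) : bc j U ≤ bc j W :=
  Submodule.span_mono (Set.image_mono h)

theorem bc_sup (j : F₀ →+* F) (U W : Submodule F₀ (ι → F₀)) : bc j (U ⊔ W) = bc j U ⊔ bc j W := by
  apply le_antisymm
  · rw [bc, Submodule.span_le]
    rintro _ ⟨x, hx, rfl⟩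
    obtain ⟨u, hu, w, hw, rfl⟩ := Submodule.mem_sup.1 hx
    rw [jv_add]
    exact Submodule.add_mem_sup (jv_mem_bc hu) (jv_mem_bc hw)
  · exact sup_le (bc_mono le_sup_left) (bc_mono le_sup_right)

theorem bc_top (j : F₀ →+* F) : bc j (⊤ : Submodule F₀ (ι → F₀)) = ⊤ := by
  rw [eq_top_iff]
  intro v _
  have h1 : v = ∑ i, v i • (Pi.single i 1 : ι → F) := by
    funext k
    rw [Finset.sum_apply]
    simp [Pi.single_apply]
  rw [h1]
  refine Submodule.sum_mem _ fun i _ => Submodule.smul_mem _ _ ?_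
  rw [← single_map j i]
  exact jv_mem_bc Submodule.mem_top

theorem finrank_bc_le (j : F₀ →+* F) (U : Submodule F₀ (ι → F₀)) : finrank F (bc j U) ≤ finrank F₀ U := by
  classical
  let b := Module.finBasis F₀ U
  have h1 : bc j U = Submodule.span F (Set.range fun i => jv j (b i : ι → F₀)) := by
    apply le_antisymm
    · rw [bc, Submodule.span_le]
      rintro _ ⟨x, hx, rfl⟩
      have h2 : x = ∑ i, b.repr ⟨x, hx⟩ i • (b i : ι → F₀) := by
        have := congrArg (Subtype.val) (b.sum_repr ⟨x, hx⟩)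
        rw [Submodule.coe_sum] at this
        exact this.symm
      have h3 : ∀ (s : Finset (Fin (finrank F₀ U))) (f : Fin (finrank F₀ U) → (ι → F₀)),
          jv j (∑ i ∈ s, f i) = ∑ i ∈ s, jv j (f i) := by
        intro s f
        induction s using Finset.induction_on with
        | empty => rw [Finset.sum_empty, Finset.sum_empty, jv_zero]
        | insert a s ha ih => rw [Finset.sum_insert ha, Finset.sum_insert ha, jv_add, ih]
      rw [h2, h3]
      refine Submodule.sum_mem _ fun i _ => ?_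
      rw [jv_smul]
      exact Submodule.smul_mem _ _ (Submodule.subset_span ⟨i, rfl⟩)
    · rw [Submodule.span_le]
      rintro _ ⟨i, rfl⟩
      exact jv_mem_bc (b i).2
  rw [h1]
  refine (finrank_range_le_card _).trans ?_
  rw [Fintype.card_fin]

theorem finrank_bc (j : F₀ →+* F) (U : Submodule F₀ (ι → F₀)) : finrank F (bc j U) = finrank F₀ U := by
  obtain ⟨W, hW⟩ := exists_isCompl U
  have h1 := finrank_bc_le j U
  have h2 := finrank_bc_le j W
  have h3 : bc j U ⊔ bc j W = ⊤ := by rw [← bc_sup, hW.sup_eq_top, bc_top]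
  have h4 := Submodule.finrank_add_le_finrank_add_finrank (bc j U) (bc j W)
  rw [h3, finrank_top, finrank_fintype_fun_eq_card] at h4
  have h5 := Submodule.finrank_add_eq_of_isCompl hW
  rw [finrank_fintype_fun_eq_card] at h5
  omega

theorem finrank_bc_inf (j : F₀ →+* F) (U W : Submodule F₀ (ι → F₀)) :
    finrank F ↥(bc j U ⊓ bc j W) = finrank F₀ ↥(U ⊓ W) := by
  have h1 := Submodule.finrank_sup_add_finrank_inf_eq (bc j U) (bc j W)
  have h2 := Submodule.finrank_sup_add_finrank_inf_eq U W
  rw [← bc_sup, finrank_bc, finrank_bc, finrank_bc] at h1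
  omega

variable {j : F₀ →+* F} {Q₀ : QuadraticForm F₀ (ι → F₀)} {Q : QuadraticForm F (ι → F)}

theorem polar_jv (hx : Ext j Q₀ Q) (u v : ι → F₀) : polar Q (jv j u) (jv j v) = j (polar Q₀ u v) := by
  rw [polar, polar, ← jv_add, map_sub, map_sub]
  congr 1
  · congr 1
    · exact hx.app _
    · exact hx.app _
  · exact hx.app _

theorem ts_bc (hx : Ext j Q₀ Q) {U : Submodule F₀ (ι → F₀)} (hU : ∀ w ∈ U, Q₀ w = 0) :
    ∀ w ∈ bc j U, Q w = 0 := by
  have hp : ∀ u ∈ U, ∀ w ∈ bc j U, polar Q (jv j u) w = 0 := by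
    intro u hu w hw
    rw [bc] at hw
    induction hw using Submodule.span_induction with
    | mem x hx' =>
      obtain ⟨v, hv, rfl⟩ := hx'
      rw [polar_jv hx, polar_of_ts hU hu hv, map_zero]
    | zero => rw [← polarBilin_apply_apply, map_zero]
    | add x y _ _ h1 h2 => rw [polar_add_right, h1, h2, add_zero]
    | smul a x _ h1 => rw [polar_smul_right, h1, smul_zero]
  have hp2 : ∀ x ∈ bc j U, ∀ w ∈ bc j U, polar Q x w = 0 := by
    intro x hx' w hw
    rw [bc] at hx'
    induction hx' using Submodule.span_induction with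
    | mem x hx' =>
      obtain ⟨v, hv, rfl⟩ := hx'
      exact hp v hv w hw
    | zero => rw [polar_comm, ← polarBilin_apply_apply, map_zero]
    | add x y _ _ h1 h2 => rw [polar_add_left, h1, h2, add_zero]
    | smul a x _ h1 => rw [polar_smul_left, h1, smul_zero]
  intro w hw
  have hw' := hw
  rw [bc] at hw
  induction hw using Submodule.span_induction with
  | mem x hx' =>
    obtain ⟨v, hv, rfl⟩ := hx'
    rw [show Q (jv j v) = j (Q₀ v) from hx.app v, hU v hv, map_zero]
  | zero => exact QuadraticMap.map_zero Q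
  | add x y hx1 hy1 h1 h2 =>
    rw [QuadraticMap.map_add Q, h1 hx1, h2 hy1, hp2 x hx1 y hy1, add_zero, add_zero]
  | smul a x hx1 h1 => rw [QuadraticMap.map_smul, h1 hx1, smul_zero]

theorem lag_bc (hx : Ext j Q₀ Q) {m : ℕ} {U : Submodule F₀ (ι → F₀)} (hU : Lag Q₀ m U) :
    Lag Q m (bc j U) :=
  ⟨(finrank_bc j U).trans hU.1, ts_bc hx hU.2⟩

theorem nondeg_bc (hx : Ext j Q₀ Q) (h : Nondeg Q₀) : Nondeg Q := by
  intro x hx'
  -- the radical of the polar form: use the determinant of the Gram matrix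
  classical
  let A : Matrix ι ι F₀ := Matrix.of fun i k => polar Q₀ (Pi.single i 1) (Pi.single k 1)
  have hA : A.det ≠ 0 := by
    intro h0
    obtain ⟨v, hv0, hv⟩ := Matrix.exists_mulVec_eq_zero_iff.2 h0
    apply hv0
    apply h
    intro y
    have h1 : ∀ i, polar Q₀ (Pi.single i 1) v = 0 := by
      intro i
      have h2 := congrFun hv i
      have h3 : v = ∑ k, v k • (Pi.single k 1 : ι → F₀) := by
        funext k
        rw [Finset.sum_apply]
        simp [Pi.single_apply]
      rw [h3, ← polarBilin_apply_apply, map_sum]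
      simp only [map_smul, polarBilin_apply_apply]
      rw [Pi.zero_apply] at h2
      rw [← h2]
      simp only [Matrix.mulVec, dotProduct, A, Matrix.of_apply, smul_eq_mul]
      exact Finset.sum_congr rfl fun k _ => mul_comm _ _
    have h3 : y = ∑ k, y k • (Pi.single k 1 : ι → F₀) := by
      funext k
      rw [Finset.sum_apply]
      simp [Pi.single_apply]
    rw [h3, polar_comm, ← polarBilin_apply_apply, map_sum, LinearMap.sum_apply]
    refine Finset.sum_eq_zero fun k _ => ?_
    rw [map_smul, LinearMap.smul_apply, polarBilin_apply_apply, h1, smul_zero]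
  have hB : (A.map j).det ≠ 0 := by
    rw [← RingHom.mapMatrix_apply, ← RingHom.map_det]
    exact (map_ne_zero j).2 hA
  by_contra hx0
  apply hB
  apply Matrix.exists_mulVec_eq_zero_iff.1
  refine ⟨x, hx0, ?_⟩
  funext i
  have h1 : polar Q (Pi.single i 1) x = 0 := by rw [polar_comm]; exact hx' _
  have h3 : x = ∑ k, x k • (Pi.single k 1 : ι → F) := by
    funext k
    rw [Finset.sum_apply]
    simp [Pi.single_apply]
  rw [h3, ← polarBilin_apply_apply, map_sum] at h1
  simp only [map_smul, polarBilin_apply_apply] at h1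
  rw [Pi.zero_apply, ← h1]
  simp only [Matrix.mulVec, dotProduct, A, Matrix.map_apply, Matrix.of_apply, smul_eq_mul]
  refine Finset.sum_congr rfl fun k _ => ?_
  rw [mul_comm, ← polar_jv hx]
  congr 2
  · exact single_map j i
  · exact single_map j k

theorem neutral_bc (hx : Ext j Q₀ Q) {m : ℕ} (h : Neutral Q₀ m) : Neutral Q m where
  nondeg := nondeg_bc hx h.nondeg
  fd := inferInstance
  dim := by
    have h1 := h.dim
    rw [finrank_fintype_fun_eq_card] at h1 ⊢
    exact h1
  ex := by
    obtain ⟨U, hU⟩ := h.ex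
    exact ⟨_, lag_bc hx hU⟩

theorem img_bc (hx : Ext j Q₀ Q) (g : Sim Q₀) (U : Submodule F₀ (ι → F₀)) :
    img (simGam Q (mapSim hx g)) (bc j U) = bc j (img (simGam Q₀ g) U) := by
  have h1 : img (simGam Q (mapSim hx g)) (bc j U) =
      (bc j U).map (Matrix.mulVecLin (mp j g.1 : Matrix ι ι F)) := by
    ext v
    rfl
  rw [h1, bc, Submodule.map_span, bc]
  congr 1
  ext v
  constructor
  · rintro ⟨_, ⟨u, hu, rfl⟩, rfl⟩
    refine ⟨((g : GL ι F₀) : Matrix ι ι F₀) *ᵥ u, ⟨u, hu, rfl⟩, ?_⟩
    exact (mp_mulVec j g.1 u).symm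
  · rintro ⟨_, ⟨u, hu, rfl⟩, rfl⟩
    refine ⟨jv j u, ⟨u, hu, rfl⟩, ?_⟩
    exact mp_mulVec j g.1 u

/-- **`kappa` is compatible with field extensions.** -/
theorem kappa_mapSim (hx : Ext j Q₀ Q) {m : ℕ} (h₀ : Neutral Q₀ m) (h : Neutral Q m) (g : Sim Q₀) :
    kappa h (simGam Q (mapSim hx g)) = kappa h₀ (simGam Q₀ g) := by
  have hb := lag_base h₀
  rw [← kappa_eq h _ (lag_bc hx hb), ← kappa_eq h₀ _ hb, img_bc, par, par, finrank_bc_inf]

theorem preserves_mapSim_iff (hx : Ext j Q₀ Q) {m : ℕ} (h₀ : Neutral Q₀ m) (g : Sim Q₀) :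
    PreservesSingularClasses (⇑Q) ((mp j g.1 : GL ι F) : Matrix ι ι F) ↔
      PreservesSingularClasses (⇑Q₀) ((g : GL ι F₀) : Matrix ι ι F₀) := by
  rw [preserves_iff h₀ g, ← kappa_mapSim hx h₀ (neutral_bc hx h₀), ← preserves_iff (neutral_bc hx h₀)]
  rfl

end Cfsg.Agent.H185.ExtKappa
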