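import Mathlib
import Cfsg.Agent.ClassicalGeometry.HermOrthonormal
import Cfsg.Agent.ClassicalGeometry.SympBasic
import Cfsg.Agent.S0277
set_option linter.all false

/-!
# Centralizers in `Sp_2m(q)` of fixed-point-free elements of order three, `q ≡ 2 (mod 3)` (helper185)

`K F` : the quadratic extension by a primitive cube root of unity; `card_cent` : `|C(x)| = |GU_m(q)|`.
-/

set_option autoImplicit false
set_option linter.unusedSectionVars false

namespace Cfsg.Agent.H185.SpThree

open Matrix Module QuadraticAlgebra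

universe u v

/-- The extension by `ω`, `ω ^ 2 = -1 - ω`. -/
abbrev K (F : Type u) [Field F] := QuadraticAlgebra F (-1) (-1)

theorem no_root {F : Type u} [Field F] [Fintype F] (hq : Fintype.card F % 3 = 2) (r : F) :
    r ^ 2 ≠ -1 + -1 * r := by
  intro h
  have h0 : r ≠ 0 := by
    rintro rfl
    have : (1 : F) = 0 := by linear_combination h
    exact one_ne_zero this
  have h3 : r ^ 3 = 1 := by linear_combination (r - 1) * h
  have h4 : r ^ (Fintype.card F - 1) = 1 := FiniteField.pow_card_sub_one_eq_one r h0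
  have h5 : r = 1 := by
    obtain ⟨k, hk⟩ : ∃ k, Fintype.card F - 1 = 3 * k + 1 := ⟨(Fintype.card F - 2) / 3, by omega⟩
    rw [hk, pow_succ, pow_mul, h3, one_pow, one_mul] at h4
    exact h4
  subst h5
  have h6 : (3 : F) = 0 := by linear_combination h
  have h7 : ringChar F ∣ 3 := ringChar.dvd (by exact_mod_cast h6)
  have h8 : ringChar F = 3 := by
    rcases (Nat.dvd_prime Nat.prime_three).1 h7 with h9 | h9
    · exact absurd h9 CharP.ringChar_ne_one
    · exact h9
  obtain ⟨n, hp, hn⟩ := FiniteField.card F (ringChar F)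
  rw [h8] at hn
  have h9 : 3 ∣ Fintype.card F := by
    rw [hn]
    exact dvd_pow_self 3 n.ne_zero
  omega

section Gen

variable {L : Type u} [Field L] {V : Type v} [AddCommGroup V] [Module L V] {σ : L →+* L}

theorem sesq_sum (H : V →ₛₗ[σ] V →ₗ[L] L) {n : ℕ} {b : Fin n → V}
    (hb : ∀ i j, H (b i) (b j) = if i = j then 1 else 0) (c d : Fin n → L) :
    H (∑ i, c i • b i) (∑ j, d j • b j) = ∑ i, σ (c i) * d i := by
  have h1 : ∀ w, H (∑ i, c i • b i) w = ∑ i, σ (c i) * H (b i) w := by
    intro w
    rw [map_sum]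
    simp only [LinearMap.sum_apply, map_smulₛₗ, LinearMap.smul_apply, smul_eq_mul]
  rw [h1]
  refine Finset.sum_congr rfl fun i _ => ?_
  congr 1
  rw [map_sum]
  simp only [map_smul, hb, smul_eq_mul, mul_ite, mul_one, mul_zero]
  rw [Finset.sum_ite_eq, if_pos (Finset.mem_univ i)]

/-- The isometry group of a hermitian form with an orthonormal basis. -/
theorem card_isom (H : V →ₛₗ[σ] V →ₗ[L] L) {n q : ℕ} (b : Basis (Fin n) L V)
    (hb : ∀ i j, H (b i) (b j) = if i = j then 1 else 0) (hq : ∀ k, σ k = k ^ q) :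
    Nat.card {T : V ≃ₗ[L] V // ∀ u v, H (T u) (T v) = H u v} = Nat.card (Cfsg.GU n L q) := by
  let E : V ≃ₗ[L] (Fin n → L) := b.equivFun
  have key : ∀ u v, Cfsg.hermForm n L q (E u) (E v) = H v u := by
    intro u v
    have hu : u = ∑ i, E u i • b i := (b.sum_equivFun u).symm
    have hv : v = ∑ i, E v i • b i := (b.sum_equivFun v).symm
    conv_rhs => rw [hu, hv]
    rw [sesq_sum H hb, Cfsg.hermForm]
    exact Finset.sum_congr rfl fun i _ => by rw [hq, mul_comm]
  let e1 : (V ≃ₗ[L] V) ≃ ((Fin n → L) ≃ₗ[L] (Fin n → L)) :=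
    { toFun := fun T => E.symm.trans (T.trans E)
      invFun := fun T => E.trans (T.trans E.symm)
      left_inv := fun T => LinearEquiv.ext fun v => by
        change E.symm (E (T (E.symm (E v)))) = T v
        rw [E.symm_apply_apply, E.symm_apply_apply]
      right_inv := fun T => LinearEquiv.ext fun v => by
        change E (E.symm (T (E (E.symm v)))) = T v
        rw [E.apply_symm_apply, E.apply_symm_apply] }
  let e2 : Matrix.GeneralLinearGroup (Fin n) L ≃* ((Fin n → L) ≃ₗ[L] (Fin n → L)) :=
    Matrix.GeneralLinearGroup.toLin.trans (LinearMap.GeneralLinearGroup.generalLinearEquiv _ _)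
  have he2 : ∀ (g : Matrix.GeneralLinearGroup (Fin n) L) w,
      e2 g w = (g : Matrix (Fin n) (Fin n) L) *ᵥ w := fun g w => rfl
  have hE : ∀ (T : V ≃ₗ[L] V) (v : V),
      ((e2.symm (e1 T) : Matrix.GeneralLinearGroup (Fin n) L) : Matrix (Fin n) (Fin n) L) *ᵥ (E v) = E (T v) := by
    intro T v
    rw [← he2, MulEquiv.apply_symm_apply]
    change E (T (E.symm (E v))) = E (T v)
    rw [LinearEquiv.symm_apply_apply]
  refine Nat.card_congr (Equiv.subtypeEquiv (e1.trans e2.symm.toEquiv) fun T => ?_)
  change _ ↔ ∀ u v, Cfsg.hermForm n L q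
    (((e2.symm (e1 T) : Matrix.GeneralLinearGroup (Fin n) L) : Matrix (Fin n) (Fin n) L) *ᵥ u)
    (((e2.symm (e1 T) : Matrix.GeneralLinearGroup (Fin n) L) : Matrix (Fin n) (Fin n) L) *ᵥ v) =
      Cfsg.hermForm n L q u v
  constructor
  · intro hT u v
    obtain ⟨u, rfl⟩ := E.surjective u
    obtain ⟨v, rfl⟩ := E.surjective v
    rw [hE, hE, key, key, hT]
  · intro hT u v
    rw [← key, ← key, ← hE, ← hE, hT]

end Gen

section Mod

variable {F : Type u} [Field F] [Fact (∀ r : F, r ^ 2 ≠ -1 + -1 * r)] {V : Type v} [AddCommGroup V] [Module F V]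

/-- The action of `K` on the endomorphisms. -/
def toEnd (X : Module.End F V) (hX : X * X = (-1 : F) • 1 + (-1 : F) • X) : K F →+* Module.End F V :=
  (QuadraticAlgebra.lift ⟨X, hX⟩ : K F →ₐ[F] Module.End F V).toRingHom

theorem toEnd_apply (X : Module.End F V) (hX : X * X = (-1 : F) • 1 + (-1 : F) • X) (k : K F) (v : V) :
    toEnd X hX k v = k.re • v + k.im • X v := rfl

/-- The module structure. -/
abbrev modK (X : Module.End F V) (hX : X * X = (-1 : F) • 1 + (-1 : F) • X) : Module (K F) V :=
  Module.compHom V (toEnd X hX)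

theorem smulK (X : Module.End F V) (hX : X * X = (-1 : F) • 1 + (-1 : F) • X) (k : K F) (v : V) :
    letI := modK X hX
    k • v = k.re • v + k.im • X v := rfl

/-- The data. -/
structure Dat (X : Module.End F V) (B : V →ₗ[F] V →ₗ[F] F) : Prop where
  hX : X * X = (-1 : F) • 1 + (-1 : F) • X
  alt : ∀ v, B v v = 0
  inv : ∀ u v, B (X u) (X v) = B u v
  nd : ∀ u, (∀ v, B u v = 0) → u = 0

variable {X : Module.End F V} {B : V →ₗ[F] V →ₗ[F] F}

theorem Dat.XX (h : Dat X B) (v : V) : X (X v) = -v - X v := by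
  have h1 := congrArg (fun T : Module.End F V => T v) h.hX
  change X (X v) = ((-1 : F) • (1 : Module.End F V) + (-1 : F) • X) v at h1
  rw [h1]
  change (-1 : F) • v + (-1 : F) • X v = _
  rw [neg_one_smul, neg_one_smul]
  abel

theorem Dat.skew (h : Dat X B) (u v : V) : B u v = - B v u := by
  have h1 := h.alt (u + v)
  simp only [map_add, LinearMap.add_apply, h.alt] at h1
  linear_combination h1

theorem Dat.left (h : Dat X B) (u v : V) : B (X u) v = - B u v - B u (X v) := by
  have h1 : X (X (X v)) = v := by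
    rw [h.XX (X v), h.XX v]
    abel
  have h2 := h.inv u (X (X v))
  rw [h1, h.XX v, map_sub, map_neg] at h2
  exact h2

/-- The hermitian form. -/
def herm (h : Dat X B) : letI := modK X h.hX; V →ₛₗ[starRingEnd (K F)] V →ₗ[K F] K F :=
  letI := modK X h.hX
  LinearMap.mk₂'ₛₗ (starRingEnd (K F)) (RingHom.id (K F)) (fun u v => ⟨B u (X v) + B u v, B u v⟩)
    (fun u u' v => by
      rw [map_add, LinearMap.add_apply, LinearMap.add_apply]
      ext
      · change _ = _ + _; ring
      · rfl)
    (fun k u v => by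
      have e : ∀ w, B (k • u) w = k.re * B u w + k.im * B (X u) w := fun w => by
        rw [smulK X h.hX, map_add, map_smul, map_smul, LinearMap.add_apply, LinearMap.smul_apply,
          LinearMap.smul_apply, smul_eq_mul, smul_eq_mul]
      rw [e, e, h.inv, h.left]
      ext
      · simp only [starRingEnd_apply, smul_eq_mul, re_mul, re_star, im_star]
        ring
      · simp only [starRingEnd_apply, smul_eq_mul, im_mul, re_star, im_star]
        ring)
    (fun u v v' => by
      rw [map_add, map_add, map_add]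
      ext
      · change _ = _ + _; ring
      · rfl)
    (fun k u v => by
      have e : ∀ w, B w (k • v) = k.re * B w v + k.im * B w (X v) := fun w => by
        rw [smulK X h.hX, map_add, map_smul, map_smul, smul_eq_mul, smul_eq_mul]
      have e2 : B u (X (k • v)) = k.re * B u (X v) + k.im * (- B u v - B u (X v)) := by
        rw [smulK X h.hX, map_add, map_smul, map_smul, h.XX, map_add, map_smul, map_smul, map_sub, map_neg,
          smul_eq_mul, smul_eq_mul]
      rw [e, e2]
      ext
      · simp only [RingHom.id_apply, smul_eq_mul, re_mul]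
        ring
      · simp only [RingHom.id_apply, smul_eq_mul, im_mul]
        ring)

theorem herm_apply (h : Dat X B) (u v : V) :
    letI := modK X h.hX
    herm h u v = ⟨B u (X v) + B u v, B u v⟩ := rfl

end Mod

section Count

variable {F : Type u} [Field F] [Fact (∀ r : F, r ^ 2 ≠ -1 + -1 * r)] {V : Type v} [AddCommGroup V] [Module F V]
  {X : Module.End F V} {B : V →ₗ[F] V →ₗ[F] F}

theorem herm_symm (h : Dat X B) : letI := modK X h.hX; (herm h).IsSymm := by
  let := modK X h.hX
  refine ⟨fun u v => ?_⟩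
  rw [herm_apply, herm_apply]
  ext
  · simp only [starRingEnd_apply, re_star]
    rw [h.skew v (X u), h.left, h.skew v u]
    ring
  · simp only [starRingEnd_apply, im_star]
    rw [h.skew v u]

theorem herm_sep (h : Dat X B) : letI := modK X h.hX; (herm h).SeparatingLeft := by
  let := modK X h.hX
  intro u hu
  apply h.nd
  intro v
  exact congrArg QuadraticAlgebra.im (hu v)

/-- Conjugation is the `q`-power. -/
theorem star_eq_pow [Fintype F] (hq : Fintype.card F % 3 = 2) (k : K F) :
    starRingEnd (K F) k = k ^ Fintype.card F := by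
  have h1 : k = algebraMap F (K F) k.re + k.im • (ω : K F) := by
    ext <;> simp [QuadraticAlgebra.algebraMap_re, QuadraticAlgebra.algebraMap_im]
  have h2 : (ω : K F) ^ 3 = 1 := by
    have h3 : (ω : K F) * ω = ⟨-1, -1⟩ := omega_mul_omega_eq_mk
    rw [pow_succ, pow_two, h3]
    ext <;> simp
  have h4 : (ω : K F) ^ Fintype.card F = ⟨-1, -1⟩ := by
    obtain ⟨t, ht⟩ : ∃ t, Fintype.card F = 3 * t + 2 := ⟨Fintype.card F / 3, by omega⟩
    rw [ht, pow_add, pow_mul, h2, one_pow, one_mul, pow_two]
    exact omega_mul_omega_eq_mk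
  have h5 := congrArg (FiniteField.frobeniusAlgHom F (K F)) h1
  rw [map_add, AlgHom.commutes, map_smul, FiniteField.coe_frobeniusAlgHom] at h5
  simp only [] at h5
  rw [h5, h4]
  ext
  · simp [starRingEnd_apply]
  · simp [starRingEnd_apply]

theorem conj_ne : starRingEnd (K F) ≠ RingHom.id (K F) := by
  intro h
  have h2 := congrArg QuadraticAlgebra.re (RingHom.congr_fun h (ω : K F))
  simp only [starRingEnd_apply, re_star, RingHom.id_apply, omega_im, omega_re] at h2
  have h3 : (1 : F) = 0 := by linear_combination -h2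
  exact one_ne_zero h3

theorem conj_conj (k : K F) : starRingEnd (K F) (starRingEnd (K F) k) = k := star_star k

/-- The isometries of the hermitian form. -/
def D (h : Dat X B) : Type v :=
  letI := modK X h.hX
  {T : V ≃ₗ[K F] V // ∀ u v, herm h (T u) (T v) = herm h u v}

theorem card_D [Fintype F] [Finite V] (hq : Fintype.card F % 3 = 2) (h : Dat X B) {m : ℕ}
    (hm : letI := modK X h.hX; finrank (K F) V = m) :
    Nat.card (D h) = Nat.card (Cfsg.GU m (K F) (Fintype.card F)) := by
  let := modK X h.hX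
  have : Finite (K F) := Finite.of_equiv _ (equivProd (-1 : F) (-1)).symm
  obtain ⟨b, hb⟩ := Cfsg.Agent.ClassicalGeometry.HermOrthonormal.exists_orthonormal_basis
    conj_ne conj_conj (herm h) (herm_symm h) (herm_sep h)
  subst hm
  exact card_isom (herm h) b hb (star_eq_pow hq)

/-- The `F`-linear maps commuting with `X` which preserve `B`. -/
theorem card_D_eq (h : Dat X B) :
    Nat.card {T : V ≃ₗ[F] V // (∀ v, T (X v) = X (T v)) ∧ ∀ u v, B (T u) (T v) = B u v} = Nat.card (D h) := by
  let := modK X h.hX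
  refine Nat.card_congr
    { toFun := fun T => ⟨{ toFun := T.1
                           invFun := T.1.symm
                           left_inv := T.1.left_inv
                           right_inv := T.1.right_inv
                           map_add' := T.1.map_add
                           map_smul' := fun k v => by
                             rw [smulK X h.hX, map_add, map_smul, map_smul, T.2.1, RingHom.id_apply, smulK X h.hX] },
          fun u v => by
            change (⟨B (T.1 u) (X (T.1 v)) + B (T.1 u) (T.1 v), B (T.1 u) (T.1 v)⟩ : K F) =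
              ⟨B u (X v) + B u v, B u v⟩
            rw [← T.2.1, T.2.2, T.2.2]⟩
      invFun := fun T => ⟨{ toFun := T.1
                            invFun := T.1.symm
                            left_inv := T.1.left_inv
                            right_inv := T.1.right_inv
                            map_add' := T.1.map_add
                            map_smul' := fun k v => by
                              have h1 : ∀ w : V, (⟨k, 0⟩ : K F) • w = k • w := fun w => by
                                rw [smulK X h.hX, zero_smul, add_zero]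
                              rw [RingHom.id_apply, ← h1, ← h1, map_smul] },
          fun v => by
            have h1 : ∀ w : V, (⟨0, 1⟩ : K F) • w = X w := fun w => by
              rw [smulK X h.hX, zero_smul, zero_add, one_smul]
            change T.1 (X v) = X (T.1 v)
            rw [← h1, ← h1, map_smul],
          fun u v => congrArg QuadraticAlgebra.im (T.2 u v)⟩
      left_inv := fun T => rfl
      right_inv := fun T => rfl }

end Count

section Sp

open Cfsg.Agent.ClassicalGeometry.SympBasic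

variable {F : Type u} [Field F] [Fintype F] {m : ℕ}

theorem dat [Fact (∀ r : F, r ^ 2 ≠ -1 + -1 * r)] (x : Matrix.symplecticGroup (Fin m) F) (hx : x ^ 3 = 1)
    (hfpf : IsUnit ((x : Matrix (Fin m ⊕ Fin m) (Fin m ⊕ Fin m) F) - 1)) :
    Dat (Matrix.toLin' (x : Matrix (Fin m ⊕ Fin m) (Fin m ⊕ Fin m) F)) (sympBilin m F) where
  hX := by
    have h1 : (x : Matrix (Fin m ⊕ Fin m) (Fin m ⊕ Fin m) F) ^ 3 = 1 := congrArg Subtype.val hx
    have h2 : ((x : Matrix (Fin m ⊕ Fin m) (Fin m ⊕ Fin m) F) - 1) *
        ((x : Matrix (Fin m ⊕ Fin m) (Fin m ⊕ Fin m) F) * x + x + 1) = 0 := by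
      have : ((x : Matrix (Fin m ⊕ Fin m) (Fin m ⊕ Fin m) F) - 1) *
        ((x : Matrix (Fin m ⊕ Fin m) (Fin m ⊕ Fin m) F) * x + x + 1) =
        (x : Matrix (Fin m ⊕ Fin m) (Fin m ⊕ Fin m) F) ^ 3 - 1 := by noncomm_ring
      rw [this, h1, sub_self]
    have h3 := (IsUnit.mul_right_eq_zero hfpf).1 h2
    rw [← LinearMap.toMatrix'.injective.eq_iff]
    rw [Module.End.mul_eq_comp, LinearMap.toMatrix'_comp, LinearMap.toMatrix'_toLin', map_add, map_smul, map_smul,
      LinearMap.toMatrix'_toLin', Module.End.one_eq_id, LinearMap.toMatrix'_id, neg_one_smul, neg_one_smul]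
    rw [← sub_eq_zero, ← h3]
    abel
  alt v := sympForm_self v
  inv u v := mem_symplecticGroup_iff.1 x.2 u v
  nd u hu := eq_zero_of_forall_sympForm_right hu

/-- The centralizer. -/
theorem card_cent (x : Matrix.symplecticGroup (Fin m) F) :
    Nat.card ↥(Subgroup.centralizer ({x} : Set ↥(Matrix.symplecticGroup (Fin m) F))) =
      Nat.card {T : (Fin m ⊕ Fin m → F) ≃ₗ[F] (Fin m ⊕ Fin m → F) //
        (∀ v, T (Matrix.toLin' (x : Matrix (Fin m ⊕ Fin m) (Fin m ⊕ Fin m) F) v) =
          Matrix.toLin' (x : Matrix (Fin m ⊕ Fin m) (Fin m ⊕ Fin m) F) (T v)) ∧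
        ∀ u v, sympBilin m F (T u) (T v) = sympBilin m F u v} := by
  have hinv : ∀ g : Matrix.symplecticGroup (Fin m) F, ∀ v : Fin m ⊕ Fin m → F,
      ((g⁻¹ : Matrix.symplecticGroup (Fin m) F) : Matrix (Fin m ⊕ Fin m) (Fin m ⊕ Fin m) F) *ᵥ
        ((g : Matrix (Fin m ⊕ Fin m) (Fin m ⊕ Fin m) F) *ᵥ v) = v := by
    intro g v
    rw [Matrix.mulVec_mulVec]
    have h1 : ((g⁻¹ : Matrix.symplecticGroup (Fin m) F) : Matrix (Fin m ⊕ Fin m) (Fin m ⊕ Fin m) F) *
        (g : Matrix (Fin m ⊕ Fin m) (Fin m ⊕ Fin m) F) = 1 := congrArg Subtype.val (inv_mul_cancel g)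
    rw [h1, Matrix.one_mulVec]
  have hinv' : ∀ g : Matrix.symplecticGroup (Fin m) F, ∀ v : Fin m ⊕ Fin m → F,
      (g : Matrix (Fin m ⊕ Fin m) (Fin m ⊕ Fin m) F) *ᵥ
      (((g⁻¹ : Matrix.symplecticGroup (Fin m) F) : Matrix (Fin m ⊕ Fin m) (Fin m ⊕ Fin m) F) *ᵥ v) = v := by
    intro g v
    rw [Matrix.mulVec_mulVec]
    have h1 : (g : Matrix (Fin m ⊕ Fin m) (Fin m ⊕ Fin m) F) *
      ((g⁻¹ : Matrix.symplecticGroup (Fin m) F) : Matrix (Fin m ⊕ Fin m) (Fin m ⊕ Fin m) F)
         = 1 := congrArg Subtype.val (mul_inv_cancel g)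
    rw [h1, Matrix.one_mulVec]
  have hx : ∀ g : Matrix.symplecticGroup (Fin m) F,
      g ∈ Subgroup.centralizer ({x} : Set ↥(Matrix.symplecticGroup (Fin m) F)) ↔
      (g : Matrix (Fin m ⊕ Fin m) (Fin m ⊕ Fin m) F) * (x : Matrix (Fin m ⊕ Fin m) (Fin m ⊕ Fin m) F) =
        (x : Matrix (Fin m ⊕ Fin m) (Fin m ⊕ Fin m) F) * (g : Matrix (Fin m ⊕ Fin m) (Fin m ⊕ Fin m) F) := by
    intro g
    rw [Subgroup.mem_centralizer_singleton_iff]
    exact ⟨fun h => congrArg Subtype.val h, fun h => Subtype.ext h⟩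
  refine Nat.card_congr (Equiv.ofBijective (fun g => ⟨{
      toFun := fun v => (g.1 : Matrix (Fin m ⊕ Fin m) (Fin m ⊕ Fin m) F) *ᵥ v
      invFun := fun v => ((g.1⁻¹ : Matrix.symplecticGroup (Fin m) F) :
        Matrix (Fin m ⊕ Fin m) (Fin m ⊕ Fin m) F) *ᵥ v
      left_inv := fun v => hinv g.1 v
      right_inv := fun v => hinv' g.1 v
      map_add' := fun u v => Matrix.mulVec_add _ _ _
      map_smul' := fun c v => Matrix.mulVec_smul _ _ _ }, fun v => ?_, fun u v => ?_⟩) ⟨?_, ?_⟩)
  · change (g.1 : Matrix (Fin m ⊕ Fin m) (Fin m ⊕ Fin m) F) *ᵥ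
      ((x : Matrix (Fin m ⊕ Fin m) (Fin m ⊕ Fin m) F) *ᵥ v) =
      (x : Matrix (Fin m ⊕ Fin m) (Fin m ⊕ Fin m) F) *ᵥ ((g.1 : Matrix (Fin m ⊕ Fin m) (Fin m ⊕ Fin m) F) *ᵥ v)
    rw [Matrix.mulVec_mulVec, Matrix.mulVec_mulVec, (hx g.1).1 g.2]
  · exact mem_symplecticGroup_iff.1 g.1.2 u v
  · intro g g' hg
    apply Subtype.ext
    apply Subtype.ext
    apply Matrix.mulVec_injective
    funext v
    exact LinearEquiv.congr_fun (congrArg Subtype.val hg) v
  · rintro ⟨T, hT, hB⟩
    have hM : ∀ v, LinearMap.toMatrix' T.toLinearMap *ᵥ v = T v := fun v => by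
      rw [LinearMap.toMatrix'_mulVec]
      rfl
    have hsp : LinearMap.toMatrix' T.toLinearMap ∈ Matrix.symplecticGroup (Fin m) F := by
      rw [mem_symplecticGroup_iff]
      intro u v
      rw [hM, hM]
      exact hB u v
    refine ⟨⟨⟨_, hsp⟩, (hx _).2 ?_⟩, ?_⟩
    · apply Matrix.mulVec_injective
      funext v
      rw [← Matrix.mulVec_mulVec, ← Matrix.mulVec_mulVec, hM, hM]
      exact hT v
    · apply Subtype.ext
      ext1 v
      exact hM v

end Sp

end Cfsg.Agent.H185.SpThree
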