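import Mathlib
import Cfsg.Agent.H185.MinusField
import Cfsg.Agent.H205.GenInn
set_option linter.all false

/-!
# The split count of an involutory field automorphism, odd characteristic (helper185)

`j : F₀ → F`, `|F| = |F₀| ^ 2`, `Ext j Q₀ Q`, even dimension `2 n`, odd characteristic.

* `isSquare_map` : every element of `F₀` is a square in `F`;
* `isoMap hx : isometryGroup F₀ Q₀ →* isometryGroup F Q`; `isoMap_refl`; `etaS_mapSim`;
* `sg_isoMap : sg Q (isoMap hx x) = etaS (incI Q₀ x)` : the special isometries of `Q₀` lie in `Ω(Q)`; `sg_neg_one`;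
* `inn_of_sq` : a proper similarity of `Q₀` with square multiplier induces an inner automorphism;
* `count_four`, `count_two` : the split count is 4 or 2 according to whether ONE proper similarity of `Q₀` with
  non-square multiplier induces an inner automorphism or not.
-/

set_option autoImplicit false
set_option linter.unusedSectionVars false

namespace Cfsg.Agent.H185.SplitTwo

open Matrix QuadraticMap Cfsg.Agent.LieClassical.OrthCore Cfsg.Agent.LieClassical.OrthTrans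
  Cfsg.Agent.LieClassical.OrthFinite
  Cfsg.Agent.ClassicalGeometry.OrthSemi Cfsg.Agent.ClassicalGeometry.Reflection
  Cfsg.Agent.H198.OrthFrame Cfsg.Agent.H185.OrthCent
  Cfsg.Agent.H185.ExtKappa Cfsg.Agent.H185.SplitOne Cfsg.Agent.H205.GenInn
open Cfsg.Agent.H198.ClassesPlus (mu mu_spec mu_unique mu_eq_one_iff dt dt_apply exists_ne_zero_of_good)
open Cfsg.Agent.H205.Gen (incI etaS eta chi scS etaS_eq_one_iff sgnF sgnF_etaS sgnF_injective chi_eq_one_iff
  chi_eq_neg_one_iff mu_incI eta_apply)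

universe u v

variable {ι : Type} [Fintype ι] [DecidableEq ι] {F : Type u} [Field F] {F₀ : Type v} [Field F₀]
  {j : F₀ →+* F} {Q₀ : QuadraticForm F₀ (ι → F₀)} {Q : QuadraticForm F (ι → F)}

/-- Every element of `F₀` is a square in `F`. -/
theorem isSquare_map [Finite F] [Finite F₀] (j : F₀ →+* F) (hc : Nat.card F = Nat.card F₀ ^ 2) (b : F₀) :
    IsSquare (j b) := by
  classical
  have := Fintype.ofFinite F
  have := Fintype.ofFinite F₀
  rw [Nat.card_eq_fintype_card, Nat.card_eq_fintype_card] at hc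
  by_cases hb : b = 0
  · subst hb; exact ⟨0, by simp⟩
  by_cases h2 : (2 : F₀) = 0
  · have h6 : CharP F₀ 2 := CharTwo.of_one_ne_zero_of_two_eq_zero one_ne_zero h2
    obtain ⟨s, hs⟩ := FiniteField.isSquare_of_char_two (ringChar.eq F₀ 2) b
    exact ⟨j s, by rw [hs, map_mul]⟩
  have hch₀ : ringChar F₀ ≠ 2 := by
    intro h
    exact h2 (by have := ringChar.Nat.cast_ringChar (R := F₀); rw [h] at this; exact_mod_cast this)
  have hch : ringChar F ≠ 2 := by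
    intro h
    apply h2
    apply j.injective
    rw [map_ofNat, map_zero]
    have := ringChar.Nat.cast_ringChar (R := F); rw [h] at this; exact_mod_cast this
  rw [FiniteField.isSquare_iff hch ((map_ne_zero j).2 hb), ← map_pow]
  have hq : Odd (Fintype.card F₀) := by
    rcases Nat.even_or_odd (Fintype.card F₀) with he | ho
    · exact absurd (FiniteField.even_card_iff_char_two.2 (Nat.even_iff.1 he)) hch₀
    · exact ho
  obtain ⟨k, hk⟩ := hq
  have h3 : Fintype.card F / 2 = (Fintype.card F₀ - 1) * (k + 1) := by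
    rw [hc, hk]
    have e1 : (2 * k + 1) ^ 2 = 2 * (2 * k * (k + 1)) + 1 := by ring
    rw [e1]
    have e2 : 2 * k + 1 - 1 = 2 * k := by omega
    rw [e2]
    omega
  rw [h3, pow_mul, FiniteField.pow_card_sub_one_eq_one b hb, one_pow, map_one]

/-- Isometries over the larger field. -/
def isoMap (hx : Ext j Q₀ Q) : isometryGroup F₀ ⇑Q₀ →* isometryGroup F ⇑Q where
  toFun x := ⟨mp j x.1, fun v _ => by
    have h := hx.sim (g := x.1) (c := 1) (fun w => by rw [one_mul]; exact x.2 w w) v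
    rw [map_one, one_mul] at h
    exact h⟩
  map_one' := Subtype.ext (map_one _)
  map_mul' x y := Subtype.ext (map_mul _ _ _)

theorem mapSim_incI (hx : Ext j Q₀ Q) (x : isometryGroup F₀ ⇑Q₀) :
    mapSim hx (incI Q₀ x) = incI Q (isoMap hx x) := rfl

theorem incI_injective : Function.Injective (incI Q) := by
  intro x y h
  exact Subtype.ext (congrArg (fun z : Sim Q => (z : GL ι F)) h)

theorem isoMap_refl (hx : Ext j Q₀ Q) {v : ι → F₀} (hv : Q₀ v ≠ 0) :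
    isoMap hx (reflIso Q₀ v hv) = reflIso Q (jv j v) (jv_ne hx hv) := by
  apply incI_injective
  rw [← mapSim_incI]
  exact mapSim_rf hx v hv

theorem isometryEquiv_refl {v : ι → F} (hv : Q v ≠ 0) :
    isometryEquiv Q (reflIso Q v hv) = ⟨refl Q v hv, refl_mem_O hv⟩ := by
  apply Subtype.ext
  ext1 x
  change ((reflIso Q v hv : GL ι F) : Matrix ι ι F) *ᵥ x = refl Q v hv x
  rw [coe_reflIso, reflectionMatrix_mulVec]
  exact (refl_apply hv x).symm

/-- Homomorphisms on the isometry group of a good form are determined by the reflections. -/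
theorem hom_unique_iso {A : Type*} [CommGroup A] (hG : Good Q) (χ₁ χ₂ : isometryGroup F ⇑Q →* A)
    (h : ∀ v (hv : Q v ≠ 0), χ₁ (reflIso Q v hv) = χ₂ (reflIso Q v hv)) : χ₁ = χ₂ := by
  have h1 : χ₁.comp (isometryEquiv Q).symm.toMonoidHom = χ₂.comp (isometryEquiv Q).symm.toMonoidHom := by
    apply H198.ClassesMinus.hom_unique_O hG
    intro v hv
    rw [← isometryEquiv_refl hv]
    change χ₁ ((isometryEquiv Q).symm (isometryEquiv Q (reflIso Q v hv))) =
      χ₂ ((isometryEquiv Q).symm (isometryEquiv Q (reflIso Q v hv)))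
    rw [MulEquiv.symm_apply_apply]
    exact h v hv
  ext1 x
  have h2 := DFunLike.congr_fun h1 (isometryEquiv Q x)
  change χ₁ ((isometryEquiv Q).symm (isometryEquiv Q x)) = χ₂ ((isometryEquiv Q).symm (isometryEquiv Q x)) at h2
  rwa [MulEquiv.symm_apply_apply] at h2

variable {n : ℕ}

theorem etaS_refl (hG : Good Q) (h2 : (2 : F) ≠ 0) (hn : Fintype.card ι = 2 * n) {v : ι → F} (hv : Q v ≠ 0) :
    etaS hG h2 hn (incI Q (reflIso Q v hv)) = -1 := by
  rcases Int.units_eq_one_or (etaS hG h2 hn (incI Q (reflIso Q v hv))) with h | h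
  · exfalso
    rw [H205.Gen.etaS_incI_eq_one_iff, det_reflIso] at h
    apply h2
    linear_combination -h
  · exact h

theorem etaS_mapSim (hx : Ext j Q₀ Q) (hG₀ : Good Q₀) (hG : Good Q) (h2₀ : (2 : F₀) ≠ 0) (h2 : (2 : F) ≠ 0)
    (hn : Fintype.card ι = 2 * n) (g : Sim Q₀) : etaS hG h2 hn (mapSim hx g) = etaS hG₀ h2₀ hn g := by
  apply sgnF_injective h2
  rw [sgnF_etaS, eta_apply, mu_mapSim hx hG₀ hG, dt_mapSim]
  have h1 : sgnF F (etaS hG₀ h2₀ hn g) = Units.map (j : F₀ →* F) (sgnF F₀ (etaS hG₀ h2₀ hn g)) := by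
    apply Units.ext
    simp [sgnF]
  rw [h1, sgnF_etaS, eta_apply, map_mul, map_inv, map_pow]

variable [Finite F] [Finite F₀]

/-- **The spinor sign of an isometry over the small field.** -/
theorem sg_isoMap (hx : Ext j Q₀ Q) (hG₀ : Good Q₀) (h2₀ : (2 : F₀) ≠ 0) (h2 : (2 : F) ≠ 0)
    (hn : Fintype.card ι = 2 * n) (hc : Nat.card F = Nat.card F₀ ^ 2) (x : isometryGroup F₀ ⇑Q₀) :
    sg Q (isoMap hx x) = etaS hG₀ h2₀ hn (incI Q₀ x) := by
  have h1 : (sg Q).comp (isoMap hx) = (etaS hG₀ h2₀ hn).comp (incI Q₀) := by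
    apply hom_unique_iso hG₀
    intro v hv
    rw [MonoidHom.comp_apply, MonoidHom.comp_apply, isoMap_refl, etaS_refl, sg_reflIso h2]
    rw [(chi_eq_one_iff _).2]
    rw [Units.val_mk0, show Q (jv j v) = j (Q₀ v) from hx.app v]
    exact isSquare_map j hc _
  exact DFunLike.congr_fun h1 x

theorem isoMap_ngI (hx : Ext j Q₀ Q) : isoMap hx (ngI Q₀) = ngI Q := by
  apply Subtype.ext
  apply Units.ext
  change ((-1 : Matrix ι ι F₀)).map j = (-1 : Matrix ι ι F)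
  ext i k
  rw [Matrix.map_apply, Matrix.neg_apply, Matrix.neg_apply, map_neg, Matrix.one_apply, Matrix.one_apply]
  split_ifs
  · rw [map_one]
  · rw [map_zero]

theorem sg_neg_one (hx : Ext j Q₀ Q) (hG₀ : Good Q₀) (h2₀ : (2 : F₀) ≠ 0) (h2 : (2 : F) ≠ 0)
    (hn : Fintype.card ι = 2 * n) (hc : Nat.card F = Nat.card F₀ ^ 2) : sg Q (ngI Q) = 1 := by
  rw [← isoMap_ngI hx, sg_isoMap hx hG₀ h2₀ h2 hn hc, H205.Gen.etaS_incI_eq_one_iff]
  exact det_ngI hn

/-- A special isometry of `Q₀` induces an inner automorphism. -/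
theorem inn_of_det (hx : Ext j Q₀ Q) (hG₀ : Good Q₀) (hG : Good Q) (h2₀ : (2 : F₀) ≠ 0) (h2 : (2 : F) ≠ 0)
    (hn : Fintype.card ι = 2 * n) (hc : Nat.card F = Nat.card F₀ ^ 2) {x : isometryGroup F₀ ⇑Q₀}
    (hdet : ((x : GL ι F₀) : Matrix ι ι F₀).det = 1) : S hG (mapSim hx (incI Q₀ x)) ∈ Inn (POmega F ⇑Q) := by
  rw [mapSim_incI, mem_inn_iff hG h2 hn]
  have h1 : etaS hG₀ h2₀ hn (incI Q₀ x) = 1 := (H205.Gen.etaS_incI_eq_one_iff hG₀ h2₀ hn x).2 hdet
  refine ⟨?_, Or.inl ?_⟩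
  · rw [← H205.Gen.etaS_incI_eq_one_iff hG h2 hn, ← mapSim_incI, etaS_mapSim hx hG₀ hG h2₀ h2 hn, h1]
  · rw [sg_isoMap hx hG₀ h2₀ h2 hn hc, h1]

/-- A proper similarity of `Q₀` with square multiplier induces an inner automorphism. -/
theorem inn_of_sq (hx : Ext j Q₀ Q) (hG₀ : Good Q₀) (hG : Good Q) (h2₀ : (2 : F₀) ≠ 0) (h2 : (2 : F) ≠ 0)
    (hn : Fintype.card ι = 2 * n) (hc : Nat.card F = Nat.card F₀ ^ 2) {g : Sim Q₀}
    (hg : etaS hG₀ h2₀ hn g = 1) (hmu : chi F₀ (mu hG₀ g) = 1) :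
    S hG (mapSim hx g) ∈ Inn (POmega F ⇑Q) := by
  have h1 : S hG₀ g ∈ psoAut F₀ (⇑Q₀) := (H205.Gen.mem_pso_iff' hG₀ h2₀ hn g).2 ⟨hmu, hg⟩
  obtain ⟨s, hs, h3⟩ := exists_of_mem_pso hG₀ h2₀ hn h1
  obtain ⟨e, rfl⟩ := (OrthCent.S_eq_iff hG₀ g (incI Q₀ s)).1 h3
  have h4 : mapSim hx (OrthCent.scSim Q₀ e) = OrthCent.scSim Q (Units.map (j : F₀ →* F) e) := by
    apply Subtype.ext
    apply Units.ext
    change ((e : F₀) • (1 : Matrix ι ι F₀)).map j = (j e) • (1 : Matrix ι ι F)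
    ext i k
    rw [Matrix.map_apply, Matrix.smul_apply, Matrix.smul_apply, smul_eq_mul, smul_eq_mul, map_mul,
      Matrix.one_apply, Matrix.one_apply]
    split_ifs
    · rw [map_one]
    · rw [map_zero]
  rw [map_mul, h4, map_mul, OrthCent.S_scSim, one_mul]
  exact inn_of_det hx hG₀ hG h2₀ h2 hn hc hs

theorem chi_cases (a : Fˣ) : chi F a = 1 ∨ chi F a = -1 := Int.units_eq_one_or _

/-- The centralizer in the group of proper similarities. -/
theorem mem_cent_iff (hx : Ext j Q₀ Q) (hG₀ : Good Q₀) (hG : Good Q) (h2₀ : (2 : F₀) ≠ 0) (h2 : (2 : F) ≠ 0)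
    (hn : Fintype.card ι = 2 * n) {σ : F ≃+* F} (hσ : Fix σ Q) (hj : ∀ a, σ a = a ↔ ∃ b, j b = a)
    {y : MulAut (POmega F ⇑Q)} :
    y ∈ H205.Gen.pd hG h2 hn ⊓ Subgroup.centralizer {Phi hG (frobG hσ)} ↔
      ∃ g : Sim Q₀, etaS hG₀ h2₀ hn g = 1 ∧ y = S hG (mapSim hx g) := by
  have hcard := card_of_good hG
  have : Nonempty ι := by
    rw [← Fintype.card_pos_iff]; omega
  have hne := exists_ne_zero_of_good hG₀
  constructor
  · rintro ⟨⟨g, hg, rfl⟩, hc⟩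
    obtain ⟨e, g₀, rfl⟩ := (comm_iff hx hG hσ hj hne g).1 hc
    have h1 : etaS hG h2 hn (OrthCent.scSim Q e) = 1 := by
      have h2' : OrthCent.scSim Q e = scS Q e := by
        apply Subtype.ext
        apply Units.ext
        rw [show ((scS Q e).1 : Matrix ι ι F) = (e : F) • (1 : Matrix ι ι F) from H205.Gen.coe_scG e]
        rfl
      rw [h2', etaS_eq_one_iff, ← H205.Gen.eta_eq_one_iff, H205.Gen.eta_scS hG hn]
    refine ⟨g₀, ?_, ?_⟩
    · rw [← etaS_mapSim hx hG₀ hG h2₀ h2 hn]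
      have h3 : etaS hG h2 hn (OrthCent.scSim Q e * mapSim hx g₀) = 1 := hg
      rwa [map_mul, h1, one_mul] at h3
    · rw [map_mul, OrthCent.S_scSim, one_mul]
  · rintro ⟨g, hg, rfl⟩
    refine ⟨⟨mapSim hx g, ?_, rfl⟩, (comm_iff hx hG hσ hj hne _).2 ⟨1, g, ?_⟩⟩
    · change etaS hG h2 hn (mapSim hx g) = 1
      rw [etaS_mapSim hx hG₀ hG h2₀ h2 hn, hg]
    · have h1 : OrthCent.scSim Q 1 = 1 := by
        apply sim_ext
        intro x
        rw [show ((OrthCent.scSim Q 1 : Sim Q) : GL ι F).1 = ((1 : Fˣ) : F) • 1 from rfl, Units.val_one, one_smul]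
        rfl
      rw [h1, one_mul]

theorem relIndex_pd (hx : Ext j Q₀ Q) (hG₀ : Good Q₀) (hG : Good Q) (h2₀ : (2 : F₀) ≠ 0) (h2 : (2 : F) ≠ 0)
    (hn : Fintype.card ι = 2 * n) (hc : Nat.card F = Nat.card F₀ ^ 2) :
    (Inn (POmega F ⇑Q)).relIndex (H205.Gen.pd hG h2 hn) = 4 := by
  obtain ⟨c, hcc⟩ : ∃ c : Fˣ, chi F c = -1 := by
    obtain ⟨a, ha⟩ := FiniteField.exists_nonsquare (Cfsg.Agent.ClassicalGeometry.Universal.ringChar_ne_two h2)
    have ha0 : a ≠ 0 := by rintro rfl; exact ha IsSquare.zero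
    exact ⟨Units.mk0 a ha0, (chi_eq_neg_one_iff _).2 ha⟩
  obtain ⟨d, hd, hdm⟩ := MinusField.exists_mult_ker hG ⟨n, by rw [hn]; ring⟩ (etaS hG h2 hn)
    (fun v hv => etaS_refl hG h2 hn hv) c
  exact inn_relIndex_pd_four hG h2 hn (d := d) (by rw [hdm, hcc]) hd (sg_neg_one hx hG₀ h2₀ h2 hn hc)

theorem inn_le_pd (hG : Good Q) (h2 : (2 : F) ≠ 0) (hn : Fintype.card ι = 2 * n) :
    Inn (POmega F ⇑Q) ≤ H205.Gen.pd hG h2 hn := (inn_le_pso hG h2 hn).trans (pso_le_pd hG h2 hn)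

/-- **Four classes.** -/
theorem count_four (hx : Ext j Q₀ Q) (hG₀ : Good Q₀) (hG : Good Q) (h2₀ : (2 : F₀) ≠ 0) (h2 : (2 : F) ≠ 0)
    (hn : Fintype.card ι = 2 * n) (hc : Nat.card F = Nat.card F₀ ^ 2)
    {σ : F ≃+* F} (hσ : Fix σ Q) (hj : ∀ a, σ a = a ↔ ∃ b, j b = a) {d : Sim Q₀} (hd : etaS hG₀ h2₀ hn d = 1)
    (hdm : chi F₀ (mu hG₀ d) = -1) (hin : S hG (mapSim hx d) ∈ Inn (POmega F ⇑Q)) :
    splitClassCount (H205.Gen.pd hG h2 hn) (Inn (POmega F ⇑Q)) (Phi hG (frobG hσ)) = 4 := by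
  have hI := SplitOne.inn_normal (POmega F ⇑Q)
  have h1 : H205.Gen.pd hG h2 hn ⊓ Subgroup.centralizer {Phi hG (frobG hσ)} ≤ Inn (POmega F ⇑Q) := by
    intro y hy
    obtain ⟨g, hg, rfl⟩ := (mem_cent_iff hx hG₀ hG h2₀ h2 hn hσ hj).1 hy
    rcases chi_cases (mu hG₀ g) with h3 | h3
    · exact inn_of_sq hx hG₀ hG h2₀ h2 hn hc hg h3
    · have h4 : S hG (mapSim hx (d⁻¹ * g)) ∈ Inn (POmega F ⇑Q) := by
        apply inn_of_sq hx hG₀ hG h2₀ h2 hn hc
        · rw [map_mul, map_inv, hd, hg]; rfl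
        · rw [map_mul, map_inv, map_mul, map_inv, hdm, h3]; rfl
      have h5 : S hG (mapSim hx g) = S hG (mapSim hx d) * S hG (mapSim hx (d⁻¹ * g)) := by
        rw [← map_mul, ← map_mul, mul_inv_cancel_left]
      rw [h5]
      exact mul_mem hin h4
  rw [Cfsg.Agent.H198.SplitCount.splitClassCount_eq_relIndex (inn_le_pd hG h2 hn)
    (fun h _ k hk => hI.conj_mem k hk h), sup_eq_left.2 h1]
  exact relIndex_pd hx hG₀ hG h2₀ h2 hn hc

/-- **Two classes.** -/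
theorem count_two (hx : Ext j Q₀ Q) (hG₀ : Good Q₀) (hG : Good Q) (h2₀ : (2 : F₀) ≠ 0) (h2 : (2 : F) ≠ 0)
    (hn : Fintype.card ι = 2 * n) (hc : Nat.card F = Nat.card F₀ ^ 2)
    {σ : F ≃+* F} (hσ : Fix σ Q) (hj : ∀ a, σ a = a ↔ ∃ b, j b = a) {d : Sim Q₀} (hd : etaS hG₀ h2₀ hn d = 1)
    (hdm : chi F₀ (mu hG₀ d) = -1) (hin : S hG (mapSim hx d) ∉ Inn (POmega F ⇑Q)) :
    splitClassCount (H205.Gen.pd hG h2 hn) (Inn (POmega F ⇑Q)) (Phi hG (frobG hσ)) = 2 := by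
  have hI := SplitOne.inn_normal (POmega F ⇑Q)
  set Z := H205.Gen.pd hG h2 hn ⊓ Subgroup.centralizer {Phi hG (frobG hσ)} with hZ
  have hdZ : S hG (mapSim hx d) ∈ Z := (mem_cent_iff hx hG₀ hG h2₀ h2 hn hσ hj).2 ⟨d, hd, rfl⟩
  have h1 : (Inn (POmega F ⇑Q)).relIndex Z = 2 := by
    rw [Subgroup.relIndex, Subgroup.index_eq_two_iff]
    refine ⟨⟨_, hdZ⟩, ?_⟩
    rintro ⟨y, hy⟩
    obtain ⟨g, hg, rfl⟩ := (mem_cent_iff hx hG₀ hG h2₀ h2 hn hσ hj).1 hy
    rw [Subgroup.mem_subgroupOf, Subgroup.mem_subgroupOf, Subgroup.coe_mul]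
    change Xor (S hG (mapSim hx g) * S hG (mapSim hx d) ∈ _) (S hG (mapSim hx g) ∈ _)
    rcases chi_cases (mu hG₀ g) with h3 | h3
    · have h4 := inn_of_sq hx hG₀ hG h2₀ h2 hn hc hg h3
      refine Or.inr ⟨h4, fun h5 => hin ?_⟩
      have h6 := mul_mem (inv_mem h4) h5
      rwa [inv_mul_cancel_left] at h6
    · have h4 : S hG (mapSim hx g) * S hG (mapSim hx d) ∈ Inn (POmega F ⇑Q) := by
        rw [← map_mul, ← map_mul]
        apply inn_of_sq hx hG₀ hG h2₀ h2 hn hc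
        · rw [map_mul, hd, hg]; rfl
        · rw [map_mul, map_mul, hdm, h3]; rfl
      refine Or.inl ⟨h4, fun h5 => hin ?_⟩
      have h6 := mul_mem (inv_mem h5) h4
      rwa [inv_mul_cancel_left] at h6
  have h2' : (Inn (POmega F ⇑Q)).relIndex (Inn (POmega F ⇑Q) ⊔ Z) = 2 := by
    rw [Subgroup.relIndex_sup_left, h1]
  have h3 := Subgroup.relIndex_mul_relIndex (Inn (POmega F ⇑Q)) (Inn (POmega F ⇑Q) ⊔ Z) (H205.Gen.pd hG h2 hn)
    le_sup_left (sup_le (inn_le_pd hG h2 hn) inf_le_left)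
  rw [Cfsg.Agent.H198.SplitCount.splitClassCount_eq_relIndex (inn_le_pd hG h2 hn)
    (fun h _ k hk => hI.conj_mem k hk h), ← hZ]
  rw [h2', relIndex_pd hx hG₀ hG h2₀ h2 hn hc] at h3
  omega

end Cfsg.Agent.H185.SplitTwo
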